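import Mathlib
import Cfsg.Prelude.Def_KGroupFacts

/-!
The Schur multiplier of a finite group through the free central extension `F / ⁅F, R⁆`: its torsion part
`M`, universality, covers.
-/

set_option autoImplicit false

namespace Cfsg.Agent.GenA.Schur

open scoped commutatorElement

universe u v w

/-- Two homomorphisms agreeing modulo the centre agree on the derived subgroup. -/
theorem eq_on_commutator {G : Type u} {X : Type v} [Group G] [Group X] (f g : G →* X)
    (h : ∀ a, (f a)⁻¹ * g a ∈ Subgroup.center X) {z : G} (hz : z ∈ commutator G) : f z = g z := by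
  have key : commutator G ≤ f.eqLocus g := by
    rw [_root_.commutator_def, Subgroup.commutator_le]
    intro a _ b _
    show f ⁅a, b⁆ = g ⁅a, b⁆
    rw [map_commutatorElement, map_commutatorElement]
    obtain ⟨c, hc, hca⟩ : ∃ c, c ∈ Subgroup.center X ∧ g a = f a * c := ⟨_, h a, (mul_inv_cancel_left _ _).symm⟩
    obtain ⟨d, hd, hdb⟩ : ∃ d, d ∈ Subgroup.center X ∧ g b = f b * d := ⟨_, h b, (mul_inv_cancel_left _ _).symm⟩
    rw [hca, hdb]
    simp only [commutatorElement_def, mul_inv_rev]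
    have hc' : ∀ x, x * c = c * x := Subgroup.mem_center_iff.mp hc
    have hd' : ∀ x, x * d = d * x := Subgroup.mem_center_iff.mp hd
    have hci : ∀ x, x * c⁻¹ = c⁻¹ * x := Subgroup.mem_center_iff.mp (inv_mem hc)
    have hdi : ∀ x, x * d⁻¹ = d⁻¹ * x := Subgroup.mem_center_iff.mp (inv_mem hd)
    calc f a * f b * (f a)⁻¹ * (f b)⁻¹
        = f a * f b * (c * c⁻¹) * (f a)⁻¹ * (d * d⁻¹) * (f b)⁻¹ := by group
      _ = f a * (f b * c) * (c⁻¹ * (f a)⁻¹) * d * (d⁻¹ * (f b)⁻¹) := by group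
      _ = f a * (c * f b) * (d * (c⁻¹ * (f a)⁻¹)) * (d⁻¹ * (f b)⁻¹) := by
          rw [hc' (f b), mul_assoc (f a * (c * f b)), hd' (c⁻¹ * (f a)⁻¹)]
      _ = _ := by group
  exact key hz

section free

variable (Q : Type u) [Group Q]

/-- the relations -/
abbrev Rel : Subgroup (FreeGroup Q) := (FreeGroup.lift (id : Q → Q)).ker

/-- `⁅F, R⁆` -/
abbrev FR : Subgroup (FreeGroup Q) := ⁅(⊤ : Subgroup (FreeGroup Q)), Rel Q⁆

/-- the free central extension -/
abbrev E : Type u := FreeGroup Q ⧸ FR Q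

theorem FR_le_Rel : FR Q ≤ Rel Q := Subgroup.commutator_le_right _ _

/-- its projection -/
def proj : E Q →* Q :=
  QuotientGroup.lift (FR Q) (FreeGroup.lift (id : Q → Q)) (FR_le_Rel Q)

theorem proj_mk (x : FreeGroup Q) : proj Q (QuotientGroup.mk' (FR Q) x) = FreeGroup.lift (id : Q → Q) x := rfl

theorem proj_surjective : Function.Surjective (proj Q) := fun q =>
  ⟨QuotientGroup.mk' (FR Q) (FreeGroup.of q), by rw [proj_mk]; simp⟩

theorem ker_le_center : (proj Q).ker ≤ Subgroup.center (E Q) := by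
  intro x hx
  obtain ⟨x, rfl⟩ := QuotientGroup.mk'_surjective (FR Q) x
  refine Subgroup.mem_center_iff.mpr fun y => ?_
  obtain ⟨y, rfl⟩ := QuotientGroup.mk'_surjective (FR Q) y
  rw [← commutatorElement_eq_one_iff_mul_comm, ← map_commutatorElement]
  exact (QuotientGroup.eq_one_iff _).mpr (Subgroup.commutator_mem_commutator (Subgroup.mem_top y) hx)

variable {Q}

/-- universality among central extensions -/
theorem exists_lift {X : Type v} {Y : Type w} [Group X] [Group Y] (ξ : X →* Y) (hξ : Function.Surjective ξ)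
    (hker : ξ.ker ≤ Subgroup.center X) (γ : Q →* Y) : ∃ η : E Q →* X, ξ.comp η = γ.comp (proj Q) := by
  set f : FreeGroup Q →* X := FreeGroup.lift fun q => Function.surjInv hξ (γ q)
  have hf : ξ.comp f = γ.comp (FreeGroup.lift (id : Q → Q)) :=
    FreeGroup.ext_hom _ _ fun q => by simp [f, Function.surjInv_eq hξ]
  have hle : FR Q ≤ f.ker := by
    rw [Subgroup.commutator_le]
    intro a _ r hr
    rw [MonoidHom.mem_ker, map_commutatorElement, commutatorElement_eq_one_iff_mul_comm]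
    have : f r ∈ ξ.ker := by
      rw [MonoidHom.mem_ker, ← MonoidHom.comp_apply, hf, MonoidHom.comp_apply, MonoidHom.mem_ker.mp hr, map_one]
    exact Subgroup.mem_center_iff.mp (hker this) (f a)
  refine ⟨QuotientGroup.lift (FR Q) f hle, ?_⟩
  refine MonoidHom.ext fun x => ?_
  obtain ⟨x, rfl⟩ := QuotientGroup.mk'_surjective (FR Q) x
  exact DFunLike.congr_fun hf x

variable (Q)

/-- the multiplier -/
def M : Subgroup (E Q) := (proj Q).ker ⊓ commutator (E Q)

theorem M_le_center : M Q ≤ Subgroup.center (E Q) := inf_le_left.trans (ker_le_center Q)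

instance : CommGroup ↥(M Q) :=
  { (inferInstance : Group ↥(M Q)) with
    mul_comm := fun a b => Subtype.ext (Subgroup.mem_center_iff.mp (M_le_center Q b.2) a) }

variable {Q}

/-- images of the multiplier -/
theorem map_M {X : Type v} [Group X] (ξ : X →* Q) (hker : ξ.ker ≤ Subgroup.center X) (η : E Q →* X)
    (hη : ξ.comp η = proj Q) : (M Q).map η = ξ.ker ⊓ commutator X := by
  have hξη : ∀ e, ξ (η e) = proj Q e := DFunLike.congr_fun hη
  refine le_antisymm ?_ ?_
  · rintro _ ⟨z, hz, rfl⟩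
    refine Subgroup.mem_inf.mpr ⟨?_, ?_⟩
    · rw [MonoidHom.mem_ker, hξη]; exact hz.1
    · have := Subgroup.mem_map_of_mem η hz.2
      rw [_root_.commutator_def, Subgroup.map_commutator] at this
      exact Subgroup.commutator_mono le_top le_top this
  · intro x hx
    have hle : commutator X ≤ (commutator (E Q)).map η := by
      rw [_root_.commutator_def X, Subgroup.commutator_le]
      intro a _ b _
      obtain ⟨e, he⟩ := proj_surjective Q (ξ a)
      obtain ⟨f, hf⟩ := proj_surjective Q (ξ b)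
      obtain ⟨c, hc, hca⟩ : ∃ c ∈ Subgroup.center X, a = η e * c :=
        ⟨_, hker (by rw [MonoidHom.mem_ker, map_mul, map_inv, hξη, he, inv_mul_cancel]), (mul_inv_cancel_left _ _).symm⟩
      obtain ⟨d, hd, hdb⟩ : ∃ d ∈ Subgroup.center X, b = η f * d :=
        ⟨_, hker (by rw [MonoidHom.mem_ker, map_mul, map_inv, hξη, hf, inv_mul_cancel]), (mul_inv_cancel_left _ _).symm⟩
      refine ⟨⁅e, f⁆, ?_, ?_⟩
      · rw [_root_.commutator_def]; exact Subgroup.commutator_mem_commutator (Subgroup.mem_top _) (Subgroup.mem_top _)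
      · rw [map_commutatorElement, hca, hdb]
        simp only [commutatorElement_def, mul_inv_rev]
        have hc' : ∀ x, x * c = c * x := Subgroup.mem_center_iff.mp hc
        have hd' : ∀ x, x * d = d * x := Subgroup.mem_center_iff.mp hd
        calc η e * η f * (η e)⁻¹ * (η f)⁻¹
            = η e * η f * (c * c⁻¹) * (η e)⁻¹ * (d * d⁻¹) * (η f)⁻¹ := by group
          _ = η e * (η f * c) * (c⁻¹ * (η e)⁻¹) * d * (d⁻¹ * (η f)⁻¹) := by group
          _ = η e * (c * η f) * (d * (c⁻¹ * (η e)⁻¹)) * (d⁻¹ * (η f)⁻¹) := by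
              rw [hc' (η f), mul_assoc (η e * (c * η f)), hd' (c⁻¹ * (η e)⁻¹)]
          _ = _ := by group
    obtain ⟨z, hz, rfl⟩ := hle hx.2
    refine ⟨z, Subgroup.mem_inf.mpr ⟨?_, hz⟩, rfl⟩
    rw [MonoidHom.mem_ker, ← hξη]; exact hx.1

theorem map_M_stem {X : Type v} [Group X] (ξ : X →* Q) (hξ : Cfsg.IsStemExtension ξ) (η : E Q →* X)
    (hη : ξ.comp η = proj Q) : (M Q).map η = ξ.ker ∧ Function.Surjective η := by
  have h := map_M ξ hξ.2.1 η hη
  rw [inf_eq_left.mpr hξ.2.2] at h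
  refine ⟨h, fun x => ?_⟩
  obtain ⟨e, he⟩ := proj_surjective Q (ξ x)
  have hc : (η e)⁻¹ * x ∈ ξ.ker := by
    rw [MonoidHom.mem_ker, map_mul, map_inv, ← MonoidHom.comp_apply, hη, he, inv_mul_cancel]
  rw [← h] at hc
  obtain ⟨z, -, hz⟩ := hc
  exact ⟨e * z, by rw [map_mul, hz, mul_inv_cancel_left]⟩

variable (Q)
variable [Finite Q]

instance finite_commutator : Finite ↥(commutator (E Q)) := by
  haveI : Finite (commutatorSet (E Q)) := by
    refine Set.Finite.to_subtype (Set.Finite.subset (Set.finite_range fun ab : Q × Q =>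
      ⁅Function.surjInv (proj_surjective Q) ab.1, Function.surjInv (proj_surjective Q) ab.2⁆) ?_)
    rintro _ ⟨a, b, rfl⟩
    refine ⟨(proj Q a, proj Q b), ?_⟩
    set a' := Function.surjInv (proj_surjective Q) (proj Q a)
    set b' := Function.surjInv (proj_surjective Q) (proj Q b)
    have ha : a'⁻¹ * a ∈ Subgroup.center (E Q) := ker_le_center Q (by
      rw [MonoidHom.mem_ker, map_mul, map_inv, Function.surjInv_eq (proj_surjective Q), inv_mul_cancel])
    have hb : b'⁻¹ * b ∈ Subgroup.center (E Q) := ker_le_center Q (by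
      rw [MonoidHom.mem_ker, map_mul, map_inv, Function.surjInv_eq (proj_surjective Q), inv_mul_cancel])
    obtain ⟨c, hc, hca⟩ : ∃ c ∈ Subgroup.center (E Q), a = a' * c := ⟨_, ha, (mul_inv_cancel_left _ _).symm⟩
    obtain ⟨d, hd, hdb⟩ : ∃ d ∈ Subgroup.center (E Q), b = b' * d := ⟨_, hb, (mul_inv_cancel_left _ _).symm⟩
    show ⁅a', b'⁆ = ⁅a, b⁆
    conv_rhs => rw [hca, hdb]
    simp only [commutatorElement_def, mul_inv_rev]
    have hc' : ∀ x, x * c = c * x := Subgroup.mem_center_iff.mp hc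
    have hd' : ∀ x, x * d = d * x := Subgroup.mem_center_iff.mp hd
    calc a' * b' * a'⁻¹ * b'⁻¹
        = a' * b' * (c * c⁻¹) * a'⁻¹ * (d * d⁻¹) * b'⁻¹ := by group
      _ = a' * (b' * c) * (c⁻¹ * a'⁻¹) * d * (d⁻¹ * b'⁻¹) := by group
      _ = a' * (c * b') * (d * (c⁻¹ * a'⁻¹)) * (d⁻¹ * b'⁻¹) := by
          rw [hc' b', mul_assoc (a' * (c * b')), hd' (c⁻¹ * a'⁻¹)]
      _ = _ := by group
  infer_instance

instance finite_M : Finite ↥(M Q) :=
  Finite.of_injective _ (Subgroup.inclusion_injective (inf_le_right : M Q ≤ commutator (E Q)))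

variable {Q}

omit [Finite Q] in
/-- degree -/
theorem exists_degree : ∃ d : E Q →* Multiplicative (Q →₀ ℤ), d.ker = commutator (E Q) := by
  have hle : FR Q ≤ (Abelianization.of (G := FreeGroup Q)).ker := by
    rw [Abelianization.ker_of, _root_.commutator_def]
    exact Subgroup.commutator_mono le_rfl le_top
  let e : Abelianization (FreeGroup Q) ≃* Multiplicative (Q →₀ ℤ) :=
    (MulEquiv.refl _).trans (AddEquiv.toMultiplicativeRight (FreeAbelianGroup.equivFinsupp Q))
  refine ⟨QuotientGroup.lift (FR Q) (e.toMonoidHom.comp Abelianization.of) (by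
    intro x hx
    rw [MonoidHom.mem_ker, MonoidHom.comp_apply, MonoidHom.mem_ker.mp (hle hx), map_one]), ?_⟩
  refine le_antisymm ?_ (Abelianization.commutator_subset_ker _)
  intro x hx
  obtain ⟨x, rfl⟩ := QuotientGroup.mk'_surjective (FR Q) x
  have h1 : e (Abelianization.of x) = 1 := hx
  rw [map_eq_one_iff e e.injective, ← MonoidHom.mem_ker, Abelianization.ker_of] at h1
  have := Subgroup.mem_map_of_mem (QuotientGroup.mk' (FR Q)) h1
  rw [_root_.commutator_def, Subgroup.map_commutator] at this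
  exact Subgroup.commutator_mono le_top le_top this

/-- A complement of `M` in the kernel killed by `η`. -/
theorem exists_complement {X : Type v} [Group X] (η : E Q →* X) (hη : (proj Q).ker.map η ≤ (M Q).map η) :
    ∃ L : Subgroup (E Q), L ≤ (proj Q).ker ∧ L ≤ η.ker ∧ L ⊓ M Q = ⊥ ∧ (proj Q).ker ≤ L ⊔ M Q := by
  obtain ⟨d, hd⟩ := exists_degree (Q := Q)
  set Kη : Subgroup (E Q) := (proj Q).ker ⊓ η.ker with hKη
  letI : CommGroup ↥Kη :=
    { (inferInstance : Group ↥Kη) with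
      mul_comm := fun a b => Subtype.ext (Subgroup.mem_center_iff.mp (ker_le_center Q b.2.1) a) }
  let f : Additive ↥Kη →ₗ[ℤ] (Q →₀ ℤ) :=
    (MonoidHom.toAdditiveLeft (d.comp Kη.subtype)).toIntLinearMap
  haveI : Module.Free ℤ ↥(LinearMap.range f) := Module.free_of_finite_type_torsion_free'
  obtain ⟨s, hs⟩ := Module.projective_lifting_property f.rangeRestrict LinearMap.id f.surjective_rangeRestrict
  refine ⟨Subgroup.map Kη.subtype (AddSubgroup.toSubgroup' (LinearMap.range s).toAddSubgroup), ?_, ?_, ?_, ?_⟩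
  · rintro _ ⟨x, -, rfl⟩; exact x.2.1
  · rintro _ ⟨x, -, rfl⟩; exact x.2.2
  · rw [eq_bot_iff]
    rintro _ ⟨⟨x, ⟨y, hy⟩, rfl⟩, hM⟩
    have h1 : f (s y) = 0 := by
      rw [show (s y) = Additive.ofMul x from hy]
      show Multiplicative.toAdd (d (x : E Q)) = 0
      have : d (x : E Q) = 1 := MonoidHom.mem_ker.mp (hd ▸ hM.2)
      rw [this]; rfl
    have h2 : f.rangeRestrict (s y) = y := DFunLike.congr_fun hs y
    have h3 : y = 0 := by rw [← h2]; exact Subtype.ext h1
    rw [h3, map_zero] at hy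
    rw [Subgroup.mem_bot]
    have : x = 1 := Additive.ofMul.injective hy.symm
    rw [this]; rfl
  · intro k hk
    obtain ⟨m, hm, hmk⟩ := hη (Subgroup.mem_map_of_mem η hk)
    have hk' : k * m⁻¹ ∈ Kη := Subgroup.mem_inf.mpr ⟨mul_mem hk (inv_mem hm.1), by rw [MonoidHom.mem_ker, map_mul, map_inv, hmk, mul_inv_cancel]⟩
    set x : Additive ↥Kη := Additive.ofMul ⟨k * m⁻¹, hk'⟩ with hx
    set y := f.rangeRestrict x
    have h2 : f.rangeRestrict (s y) = y := DFunLike.congr_fun hs y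
    have h3 : f (x - s y) = 0 := by rw [map_sub, sub_eq_zero]; exact (congrArg Subtype.val h2).symm
    have hz : ((Additive.toMul (x - s y) : ↥Kη) : E Q) ∈ M Q := by
      refine Subgroup.mem_inf.mpr ⟨(Additive.toMul (x - s y)).2.1, ?_⟩
      rw [← hd, MonoidHom.mem_ker]
      exact congrArg Multiplicative.ofAdd h3
    have e1 : k = ((Additive.toMul (s y) : ↥Kη) : E Q) * (((Additive.toMul (x - s y) : ↥Kη) : E Q) * m) := by
      rw [toMul_sub, div_eq_mul_inv, mul_comm (Additive.toMul x), Subgroup.coe_mul, ← mul_assoc, ← mul_assoc,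
        Subgroup.coe_inv, mul_inv_cancel, one_mul, hx]
      exact (inv_mul_cancel_right k m).symm
    rw [e1]
    exact Subgroup.mul_mem_sup ⟨Additive.toMul (s y), ⟨y, rfl⟩, rfl⟩ (mul_mem hz hm)

/-- Schur covers over a given stem extension. -/
theorem exists_cover {X : Type v} [Group X] (ξ : X →* Q) (hξ : Cfsg.IsStemExtension ξ) :
    ∃ (Γ : Type u) (_ : Group Γ) (_ : Finite Γ) (σ : Γ →* Q), Cfsg.IsStemExtension σ ∧
      Nonempty (σ.ker ≃* ↥(M Q)) ∧ ∃ β : Γ →* X, Function.Surjective β ∧ ξ.comp β = σ := by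
  obtain ⟨η, hη⟩ := exists_lift ξ hξ.1 hξ.2.1 (MonoidHom.id Q)
  rw [MonoidHom.id_comp] at hη
  obtain ⟨hmap, hsurj⟩ := map_M_stem ξ hξ η hη
  obtain ⟨L, hLK, hLη, hLM, hKLM⟩ := exists_complement η (by
    rw [hmap]
    rintro _ ⟨k, hk, rfl⟩
    rw [MonoidHom.mem_ker, ← MonoidHom.comp_apply, hη]; exact hk)
  haveI : L.Normal := ⟨fun a ha g => by
    rw [Subgroup.mem_center_iff.mp (ker_le_center Q (hLK ha)) g, mul_inv_cancel_right]; exact ha⟩
  set σ : E Q ⧸ L →* Q := QuotientGroup.lift L (proj Q) hLK with hσ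
  set mk := QuotientGroup.mk' L with hmk
  let φ : ↥(M Q) →* ↥σ.ker := (mk.comp (M Q).subtype).codRestrict σ.ker fun a => a.2.1
  have hφ : Function.Bijective φ := by
    constructor
    · intro a b e
      have h : ((a : E Q))⁻¹ * b ∈ L ⊓ M Q :=
        Subgroup.mem_inf.mpr ⟨QuotientGroup.eq.mp (congrArg Subtype.val e :), mul_mem (inv_mem a.2) b.2⟩
      rw [hLM, Subgroup.mem_bot] at h
      exact Subtype.ext (inv_mul_eq_one.mp h)
    · rintro ⟨x, hx⟩
      obtain ⟨x, rfl⟩ := QuotientGroup.mk'_surjective L x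
      haveI : (M Q).Normal := ⟨fun a ha g => by
        rw [Subgroup.mem_center_iff.mp (M_le_center Q ha) g, mul_inv_cancel_right]; exact ha⟩
      obtain ⟨l, hl, m, hm, rfl⟩ := Subgroup.mem_sup_of_normal_left.mp (hKLM (MonoidHom.mem_ker.mpr hx))
      refine ⟨⟨m, hm⟩, Subtype.ext ?_⟩
      show mk m = mk (l * m)
      rw [map_mul, (QuotientGroup.eq_one_iff l).mpr hl |> fun h => show mk l = 1 from h, one_mul]
  haveI : Finite σ.ker := Finite.of_surjective φ hφ.2
  haveI : Finite (E Q ⧸ L) := by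
    refine Finite.of_injective (fun x : E Q ⧸ L => (σ x, (⟨(mk (Function.surjInv (proj_surjective Q) (σ x)))⁻¹ * x, by
      rw [MonoidHom.mem_ker, map_mul, map_inv]
      rw [show σ (mk (Function.surjInv (proj_surjective Q) (σ x))) = σ x from Function.surjInv_eq (proj_surjective Q) (σ x), inv_mul_cancel]⟩ : σ.ker))) ?_
    intro a b e
    simp only [Prod.mk.injEq, Subtype.mk.injEq] at e
    rw [e.1] at e
    exact mul_left_cancel e.2
  have hstem : Cfsg.IsStemExtension σ := by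
    refine ⟨fun q => ?_, fun x hx => ?_, fun x hx => ?_⟩
    · obtain ⟨e, rfl⟩ := proj_surjective Q q; exact ⟨mk e, rfl⟩
    · obtain ⟨⟨m, hm⟩, e⟩ := hφ.2 ⟨x, hx⟩
      rw [show x = mk m from (congrArg Subtype.val e).symm, Subgroup.mem_center_iff]
      intro y
      obtain ⟨y, rfl⟩ := QuotientGroup.mk'_surjective L y
      rw [← map_mul, ← map_mul, Subgroup.mem_center_iff.mp (M_le_center Q hm) y]
    · obtain ⟨⟨m, hm⟩, e⟩ := hφ.2 ⟨x, hx⟩
      rw [show x = mk m from (congrArg Subtype.val e).symm]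
      have := Subgroup.mem_map_of_mem mk hm.2
      rw [_root_.commutator_def, Subgroup.map_commutator] at this
      exact Subgroup.commutator_mono le_top le_top this
  refine ⟨E Q ⧸ L, inferInstance, inferInstance, σ, hstem, ⟨(MulEquiv.ofBijective φ hφ).symm⟩,
    QuotientGroup.lift L η hLη, fun x => ?_, ?_⟩
  · obtain ⟨e, rfl⟩ := hsurj x; exact ⟨mk e, rfl⟩
  · refine MonoidHom.ext fun x => ?_
    obtain ⟨x, rfl⟩ := QuotientGroup.mk'_surjective L x
    exact DFunLike.congr_fun hη x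

/-- The kernel of every stem extension is an image of `M`. -/
theorem exists_surjective {X : Type v} [Group X] (ξ : X →* Q) (hξ : Cfsg.IsStemExtension ξ) :
    ∃ π : ↥(M Q) →* ξ.ker, Function.Surjective π := by
  obtain ⟨η, hη⟩ := exists_lift ξ hξ.1 hξ.2.1 (MonoidHom.id Q)
  rw [MonoidHom.id_comp] at hη
  obtain ⟨hmap, -⟩ := map_M_stem ξ hξ η hη
  refine ⟨(η.comp (M Q).subtype).codRestrict ξ.ker fun a => hmap ▸ Subgroup.mem_map_of_mem η a.2, fun x => ?_⟩
  obtain ⟨m, hm, e⟩ := hmap.ge x.2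
  exact ⟨⟨m, hm⟩, Subtype.ext e⟩

theorem hasSchurMultiplier_M : Cfsg.HasSchurMultiplier Q ↥(M Q) := by
  obtain ⟨Γ, i1, i2, σ, h1, h2, -⟩ := exists_cover (MonoidHom.id Q)
    ⟨fun q => ⟨q, rfl⟩, fun x hx => by rw [show x = 1 from hx]; exact one_mem _, fun x hx => by rw [show x = 1 from hx]; exact one_mem _⟩
  exact ⟨⟨Γ, i1, i2, σ, h1, h2⟩, fun Δ _ _ τ hτ => exists_surjective τ hτ⟩

theorem mulEquiv_M {A : Type v} [CommGroup A] (hA : Cfsg.HasSchurMultiplier Q A) :
    Nonempty (A ≃* ↥(M Q)) := by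
  obtain ⟨⟨Γ, i1, i2, σ, hσ, ⟨e⟩⟩, hA2⟩ := hA
  obtain ⟨⟨Δ, j1, j2, τ, hτ, ⟨f⟩⟩, -⟩ := hasSchurMultiplier_M (Q := Q)
  obtain ⟨π1, hπ1⟩ := exists_surjective σ hσ
  obtain ⟨π2, hπ2⟩ := hA2 Δ τ hτ
  haveI : Finite A := Finite.of_equiv _ e.toEquiv
  have h1 : Function.Surjective (e.toMonoidHom.comp π1) := e.surjective.comp hπ1
  have h2 : Function.Surjective (f.toMonoidHom.comp π2) := f.surjective.comp hπ2
  exact ⟨MulEquiv.ofBijective _ ((Nat.bijective_iff_surjective_and_card _).mpr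
    ⟨h2, le_antisymm (Nat.card_le_card_of_surjective _ h1) (Nat.card_le_card_of_surjective _ h2)⟩)⟩

theorem trivial_iff : Cfsg.HasCyclicSchurMultiplier Q 1 ↔ M Q = ⊥ := by
  constructor
  · intro h
    obtain ⟨e⟩ := mulEquiv_M h
    haveI : Subsingleton ↥(M Q) := e.symm.toEquiv.subsingleton
    rw [Subgroup.eq_bot_iff_forall]
    exact fun x hx => congrArg Subtype.val (Subsingleton.elim (⟨x, hx⟩ : ↥(M Q)) 1)
  · intro h
    haveI : Subsingleton ↥(M Q) := by rw [h]; infer_instance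
    obtain ⟨⟨Γ, i1, i2, σ, hσ, ⟨e⟩⟩, h2⟩ := hasSchurMultiplier_M (Q := Q)
    haveI : Unique ↥(M Q) := uniqueOfSubsingleton 1
    let e' : ↥(M Q) ≃* Multiplicative (ZMod 1) := MulEquiv.ofUnique
    refine ⟨⟨Γ, i1, i2, σ, hσ, ⟨e.trans e'⟩⟩, fun Δ _ _ τ hτ => ?_⟩
    obtain ⟨π, hπ⟩ := h2 Δ τ hτ
    exact ⟨π.comp e'.symm.toMonoidHom, hπ.comp e'.symm.surjective⟩

end free

end Cfsg.Agent.GenA.Schur
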