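import Mathlib
import Cfsg.Agent.GenA.Schur.Cover

/-!
Consequences: triviality criteria, universal central extensions of perfect groups.
-/

set_option autoImplicit false

namespace Cfsg.Agent.GenA.Schur

open scoped commutatorElement

universe u v w

/-- two lifts to a central extension agree on a perfect group -/
theorem eq_of_perfect {G : Type u} {X : Type v} {Y : Type w} [Group G] [Group X] [Group Y]
    (hG : Group.IsPerfect G) (ξ : X →* Y) (hker : ξ.ker ≤ Subgroup.center X) (f g : G →* X)
    (h : ξ.comp f = ξ.comp g) : f = g := by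
  refine MonoidHom.ext fun z => eq_on_commutator f g (fun a => hker ?_) ((Group.isPerfect_def.mp hG).ge (Subgroup.mem_top z))
  rw [MonoidHom.mem_ker, map_mul, map_inv, ← MonoidHom.comp_apply, h, MonoidHom.comp_apply, inv_mul_cancel]

variable {Q : Type u} [Group Q]

theorem commutator_perfect (hQ : Group.IsPerfect Q) : Group.IsPerfect ↥(commutator (E Q)) := by
  rw [Subgroup.isPerfect_iff]
  refine le_antisymm ?_ ?_
  · exact (Subgroup.commutator_mono le_top le_top).trans (_root_.commutator_def (E Q)).ge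
  rw [_root_.commutator_def (E Q), Subgroup.commutator_le]
  intro a _ b _
  have hlift : ∀ x : E Q, ∃ c ∈ commutator (E Q), c⁻¹ * x ∈ Subgroup.center (E Q) := by
    intro x
    have hle : commutator Q ≤ (commutator (E Q)).map (proj Q) := by
      rw [_root_.commutator_def Q, _root_.commutator_def (E Q), Subgroup.map_commutator,
        Subgroup.map_top_of_surjective _ (proj_surjective Q)]
    obtain ⟨c, hc, hcx⟩ := hle (show proj Q x ∈ commutator Q from (Group.isPerfect_def.mp hQ).ge (Subgroup.mem_top _))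
    exact ⟨c, hc, ker_le_center Q (by rw [MonoidHom.mem_ker, map_mul, map_inv, hcx, inv_mul_cancel])⟩
  obtain ⟨a', ha', hca⟩ := hlift a
  obtain ⟨b', hb', hdb⟩ := hlift b
  rw [show ⁅a, b⁆ = ⁅a', b'⁆ from ?_, ← _root_.commutator_def]
  · exact Subgroup.commutator_mem_commutator ha' hb'
  obtain ⟨c, hc, rfl⟩ : ∃ c ∈ Subgroup.center (E Q), a = a' * c := ⟨_, hca, (mul_inv_cancel_left _ _).symm⟩
  obtain ⟨d, hd, rfl⟩ : ∃ d ∈ Subgroup.center (E Q), b = b' * d := ⟨_, hdb, (mul_inv_cancel_left _ _).symm⟩
  simp only [commutatorElement_def, mul_inv_rev]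
  have hc' : ∀ x, x * c = c * x := Subgroup.mem_center_iff.mp hc
  have hd' : ∀ x, x * d = d * x := Subgroup.mem_center_iff.mp hd
  symm
  calc a' * b' * a'⁻¹ * b'⁻¹
      = a' * b' * (c * c⁻¹) * a'⁻¹ * (d * d⁻¹) * b'⁻¹ := by group
    _ = a' * (b' * c) * (c⁻¹ * a'⁻¹) * d * (d⁻¹ * b'⁻¹) := by group
    _ = a' * (c * b') * (d * (c⁻¹ * a'⁻¹)) * (d⁻¹ * b'⁻¹) := by
        rw [hc' b', mul_assoc (a' * (c * b')), hd' (c⁻¹ * a'⁻¹)]
    _ = _ := by group

theorem universal [Finite Q] (hQ : Group.IsPerfect Q) :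
    ∃ (G : Type u) (_ : Group G) (_ : Finite G) (π : G →* Q), Group.IsPerfect G ∧ Function.Surjective π ∧
      π.ker ≤ Subgroup.center G ∧ ∀ (X : Type u) [Group X] (ξ : X →* Q), Function.Surjective ξ →
        ξ.ker ≤ Subgroup.center X → ∃! η : G →* X, ξ.comp η = π := by
  refine ⟨↥(commutator (E Q)), inferInstance, inferInstance, (proj Q).comp (commutator (E Q)).subtype,
    commutator_perfect hQ, fun q => ?_, fun z hz => ?_, fun X _ ξ hξ hker => ?_⟩
  · have hle : commutator Q ≤ (commutator (E Q)).map (proj Q) := by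
      rw [_root_.commutator_def Q, _root_.commutator_def (E Q), Subgroup.map_commutator,
        Subgroup.map_top_of_surjective _ (proj_surjective Q)]
    obtain ⟨c, hc, hcq⟩ := hle (show q ∈ commutator Q from (Group.isPerfect_def.mp hQ).ge (Subgroup.mem_top _))
    exact ⟨⟨c, hc⟩, hcq⟩
  · exact Subgroup.mem_center_iff.mpr fun y => Subtype.ext (Subgroup.mem_center_iff.mp (ker_le_center Q hz) y)
  · obtain ⟨η, hη⟩ := exists_lift ξ hξ hker (MonoidHom.id Q)
    rw [MonoidHom.id_comp] at hη
    refine ⟨η.comp (commutator (E Q)).subtype, ?_, fun g hg => ?_⟩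
    · show ξ.comp _ = _
      rw [← MonoidHom.comp_assoc, hη]
    · refine eq_of_perfect (commutator_perfect hQ) ξ hker _ _ ?_
      rw [hg, ← MonoidHom.comp_assoc, hη]

/-- a finite perfect group with trivial multiplier is universal -/
theorem exists_lift_of_trivial {G : Type u} [Group G] {X : Type v} {Y : Type w} [Group X] [Group Y]
    (hG : Group.IsPerfect G) (hM : M G = ⊥) (ξ : X →* Y) (hξ : Function.Surjective ξ)
    (hker : ξ.ker ≤ Subgroup.center X) (π : G →* Y) : ∃ η : G →* X, ξ.comp η = π := by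
  obtain ⟨η0, hη0⟩ := exists_lift ξ hξ hker π
  let r : ↥(commutator (E G)) →* G := (proj G).comp (commutator (E G)).subtype
  have hinj : Function.Injective r := by
    rw [injective_iff_map_eq_one]
    intro z hz
    have : (z : E G) ∈ M G := Subgroup.mem_inf.mpr ⟨hz, z.2⟩
    rw [hM, Subgroup.mem_bot] at this
    exact Subtype.ext this
  have hsurj : Function.Surjective r := by
    intro q
    have hle : commutator G ≤ (commutator (E G)).map (proj G) := by
      rw [_root_.commutator_def G, _root_.commutator_def (E G), Subgroup.map_commutator,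
        Subgroup.map_top_of_surjective _ (proj_surjective G)]
    obtain ⟨c, hc, hcq⟩ := hle (show q ∈ commutator G from (Group.isPerfect_def.mp hG).ge (Subgroup.mem_top _))
    exact ⟨⟨c, hc⟩, hcq⟩
  let e := MulEquiv.ofBijective r ⟨hinj, hsurj⟩
  refine ⟨(η0.comp (commutator (E G)).subtype).comp e.symm.toMonoidHom, MonoidHom.ext fun g => ?_⟩
  show ξ (η0 ((e.symm g : ↥(commutator (E G))) : E G)) = π g
  rw [← MonoidHom.comp_apply, hη0, MonoidHom.comp_apply]
  exact congrArg π (e.apply_symm_apply g)

end Cfsg.Agent.GenA.Schur
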