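import Mathlib
import Cfsg.Agent.GenA.Schur.Cover

/-!
The central extension of a group by a bimultiplicative map (Heisenberg construction).
-/

set_option autoImplicit false

namespace Cfsg.Agent.GenA.Schur

open scoped commutatorElement

universe u v

variable {H : Type u} {T : Type v} [Group H] [CommGroup T]

/-- pairs with multiplication twisted by `β` -/
@[ext]
structure Twist (β : H →* H →* T) where
  base : H
  fib : T

namespace Twist

variable {β : H →* H →* T}

instance : Mul (Twist β) := ⟨fun a b => ⟨a.base * b.base, a.fib * b.fib * β a.base b.base⟩⟩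
instance : One (Twist β) := ⟨⟨1, 1⟩⟩
instance : Inv (Twist β) := ⟨fun a => ⟨a.base⁻¹, a.fib⁻¹ * β a.base a.base⟩⟩

theorem mul_base (a b : Twist β) : (a * b).base = a.base * b.base := rfl
theorem mul_fib (a b : Twist β) : (a * b).fib = a.fib * b.fib * β a.base b.base := rfl

instance : Group (Twist β) :=
  Group.ofLeftAxioms
    (fun a b c => by
      refine Twist.ext (mul_assoc _ _ _) ?_
      simp only [mul_fib, mul_base, _root_.map_mul, MonoidHom.mul_apply, mul_assoc, mul_comm, mul_left_comm])
    (fun a => by
      refine Twist.ext (one_mul _) ?_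
      show (1 : T) * a.fib * β 1 a.base = a.fib
      simp)
    (fun a => by
      refine Twist.ext (inv_mul_cancel _) ?_
      show a.fib⁻¹ * β a.base a.base * a.fib * β a.base⁻¹ a.base = 1
      rw [map_inv, MonoidHom.inv_apply, mul_comm (a.fib⁻¹) (β a.base a.base), mul_assoc (β a.base a.base),
        inv_mul_cancel, mul_one, mul_inv_cancel])

variable (β)

/-- projection -/
def proj : Twist β →* H where
  toFun := fun a => a.base
  map_one' := rfl
  map_mul' := fun _ _ => rfl

/-- inclusion of the fibre -/
def incl : T →* Twist β where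
  toFun := fun t => ⟨1, t⟩
  map_one' := rfl
  map_mul' := fun s t => by
    refine Twist.ext (one_mul _).symm ?_
    show s * t = s * t * β 1 1
    simp

theorem incl_injective : Function.Injective (incl β) := fun _ _ h => congrArg Twist.fib h

theorem proj_surjective : Function.Surjective (proj β) := fun h => ⟨⟨h, 1⟩, rfl⟩

theorem proj_incl (t : T) : proj β (incl β t) = 1 := rfl

theorem incl_central (t : T) : incl β t ∈ Subgroup.center (Twist β) := by
  refine Subgroup.mem_center_iff.mpr fun a => Twist.ext ?_ ?_
  · show a.base * 1 = 1 * a.base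
    simp
  · show a.fib * t * β a.base 1 = t * a.fib * β 1 a.base
    simp [mul_comm]

theorem ker_eq : (proj β).ker = (incl β).range := by
  ext a
  constructor
  · intro ha
    exact ⟨a.fib, Twist.ext (show (1 : H) = a.base from (MonoidHom.mem_ker.mp ha).symm) rfl⟩
  · rintro ⟨t, rfl⟩; rfl

theorem ker_le_center : (proj β).ker ≤ Subgroup.center (Twist β) := by
  rw [ker_eq]; rintro _ ⟨t, rfl⟩; exact incl_central β t

instance [Finite H] [Finite T] : Finite (Twist β) :=
  Finite.of_injective (fun a : Twist β => (a.base, a.fib)) fun a b h => Twist.ext (congrArg Prod.fst h :) (congrArg Prod.snd h :)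

theorem commutator_commute {h k : H} (hk : h * k = k * h) (s t : T) :
    ⁅(⟨h, s⟩ : Twist β), ⟨k, t⟩⁆ = incl β (β h k * (β k h)⁻¹) := by
  rw [commutatorElement_def, mul_inv_eq_iff_eq_mul, mul_inv_eq_iff_eq_mul]
  refine Twist.ext ?_ ?_
  · show h * k = 1 * k * h
    rw [one_mul, hk]
  · show s * t * β h k = β h k * (β k h)⁻¹ * t * β 1 k * s * β (1 * k) h
    rw [map_one, MonoidHom.one_apply, mul_one, one_mul]
    rw [show β h k * (β k h)⁻¹ * t * s * β k h = β h k * t * s * ((β k h)⁻¹ * β k h) by ac_rfl, inv_mul_cancel,
      mul_one]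
    ac_rfl

end Twist

end Cfsg.Agent.GenA.Schur
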