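import Mathlib
import Cfsg.Agent.GenA.Schur.Cover
import Cfsg.Agent.GenA.Schur.Twist

/-!
The multiplier of a direct product.
-/

set_option autoImplicit false

namespace Cfsg.Agent.GenA.Schur

open scoped commutatorElement TensorProduct

universe u v w

theorem commutator_shift {X : Type u} [Group X] {a b c d : X} (hc : c ∈ Subgroup.center X)
    (hd : d ∈ Subgroup.center X) : ⁅a * c, b * d⁆ = ⁅a, b⁆ := by
  simp only [commutatorElement_def, mul_inv_rev]
  have hc' : ∀ x, x * c = c * x := Subgroup.mem_center_iff.mp hc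
  have hd' : ∀ x, x * d = d * x := Subgroup.mem_center_iff.mp hd
  symm
  calc a * b * a⁻¹ * b⁻¹
      = a * b * (c * c⁻¹) * a⁻¹ * (d * d⁻¹) * b⁻¹ := by group
    _ = a * (b * c) * (c⁻¹ * a⁻¹) * d * (d⁻¹ * b⁻¹) := by group
    _ = a * (c * b) * (d * (c⁻¹ * a⁻¹)) * (d⁻¹ * b⁻¹) := by
        rw [hc' b, mul_assoc (a * (c * b)), hd' (c⁻¹ * a⁻¹)]
    _ = _ := by group

variable {Q₁ : Type u} {Q₂ : Type v} [Group Q₁] [Group Q₂] [Finite Q₁] [Finite Q₂]

/-- the tensor product of the commutator quotients -/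
abbrev TT (Q₁ : Type u) (Q₂ : Type v) [Group Q₁] [Group Q₂] : Type (max u v) :=
  Multiplicative (TensorProduct ℤ (Additive (Abelianization Q₁)) (Additive (Abelianization Q₂)))

theorem finite_tt : Finite (TT Q₁ Q₂) := by
  haveI : Finite (Abelianization Q₁) := Quotient.finite _
  haveI : Finite (Abelianization Q₂) := Quotient.finite _
  haveI : AddGroup.FG (TensorProduct ℤ (Additive (Abelianization Q₁)) (Additive (Abelianization Q₂))) := by
    refine AddGroup.fg_iff.mpr ⟨Set.range fun ab : Additive (Abelianization Q₁) × Additive (Abelianization Q₂) =>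
      ab.1 ⊗ₜ[ℤ] ab.2, eq_top_iff.mpr fun x hx => ?_, Set.finite_range _⟩
    clear hx
    induction x using TensorProduct.induction_on with
    | zero => exact zero_mem _
    | tmul a b => exact AddSubgroup.subset_closure ⟨(a, b), rfl⟩
    | add a b ha hb => exact add_mem ha hb
  have h : AddMonoid.IsTorsion (TensorProduct ℤ (Additive (Abelianization Q₁)) (Additive (Abelianization Q₂))) := by
    intro x
    refine isOfFinAddOrder_iff_nsmul_eq_zero.mpr ⟨Nat.card (Abelianization Q₁), Nat.card_pos, ?_⟩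
    induction x using TensorProduct.induction_on with
    | zero => simp
    | tmul a b =>
      rw [TensorProduct.smul_tmul', show Nat.card (Abelianization Q₁) • a = 0 from card_nsmul_eq_zero',
        TensorProduct.zero_tmul]
    | add a b ha hb => rw [nsmul_add, ha, hb, add_zero]
  haveI := AddCommGroup.finite_of_fg_torsion _ h
  exact Finite.of_equiv _ Multiplicative.ofAdd

section lower

variable {Γ₁ : Type u} {Γ₂ : Type v} [Group Γ₁] [Group Γ₂] (σ₁ : Γ₁ →* Q₁) (σ₂ : Γ₂ →* Q₂)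

/-- the cocycle -/
noncomputable def pairing : (Γ₁ × Γ₂) →* (Γ₁ × Γ₂) →* TT Q₁ Q₂ :=
  MonoidHom.mk' (fun h => MonoidHom.mk'
    (fun k => Multiplicative.ofAdd (Additive.ofMul (Abelianization.of (σ₁ k.1)) ⊗ₜ[ℤ] Additive.ofMul (Abelianization.of (σ₂ h.2))))
    fun k l => by simp [TensorProduct.add_tmul]) fun h h' => MonoidHom.ext fun k => by simp [TensorProduct.tmul_add]

omit [Finite Q₁] [Finite Q₂] in
theorem pairing_apply (h k : Γ₁ × Γ₂) : pairing σ₁ σ₂ h k =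
    Multiplicative.ofAdd (Additive.ofMul (Abelianization.of (σ₁ k.1)) ⊗ₜ[ℤ] Additive.ofMul (Abelianization.of (σ₂ h.2))) := rfl

theorem exists_stem [Finite Γ₁] [Finite Γ₂] {A B : Type w} [CommGroup A] [CommGroup B]
    (h₁ : Cfsg.IsStemExtension σ₁) (h₂ : Cfsg.IsStemExtension σ₂) (eA : σ₁.ker ≃* A) (eB : σ₂.ker ≃* B) :
    ∃ (Γ : Type (max u v)) (_ : Group Γ) (_ : Finite Γ) (σ : Γ →* Q₁ × Q₂),
      Cfsg.IsStemExtension σ ∧ Nonempty (σ.ker ≃* A × B × TT Q₁ Q₂) := by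
  haveI := finite_tt (Q₁ := Q₁) (Q₂ := Q₂)
  set β := pairing σ₁ σ₂ with hβ
  let σ : Twist β →* Q₁ × Q₂ := (σ₁.prodMap σ₂).comp (Twist.proj β)
  have hk : ∀ x : Twist β, x ∈ σ.ker ↔ σ₁ x.base.1 = 1 ∧ σ₂ x.base.2 = 1 := fun x => by
    rw [MonoidHom.mem_ker]
    exact Prod.ext_iff
  have hzero : ∀ (h k : Γ₁ × Γ₂), σ₁ k.1 = 1 ∨ σ₂ h.2 = 1 → β h k = 1 := by
    intro h k hor
    rw [hβ, pairing_apply]
    rcases hor with e | e <;> simp [e]
  have hcen : σ.ker ≤ Subgroup.center (Twist β) := by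
    intro x hx
    obtain ⟨hx1, hx2⟩ := (hk x).mp hx
    refine Subgroup.mem_center_iff.mpr fun y => Twist.ext ?_ ?_
    · exact Prod.ext (Subgroup.mem_center_iff.mp (h₁.2.1 hx1) _) (Subgroup.mem_center_iff.mp (h₂.2.1 hx2) _)
    · show y.fib * x.fib * β y.base x.base = x.fib * y.fib * β x.base y.base
      rw [hzero _ _ (Or.inl hx1), hzero _ _ (Or.inr hx2), mul_comm y.fib]
  let ι₁ : Γ₁ →* Twist β := MonoidHom.mk' (fun x => ⟨(x, 1), 1⟩) fun a b => Twist.ext (Prod.ext rfl (one_mul 1).symm) (by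
    show (1 : TT Q₁ Q₂) = 1 * 1 * β (a, 1) (b, 1)
    rw [hzero _ _ (Or.inr (map_one σ₂)), one_mul, one_mul])
  let ι₂ : Γ₂ →* Twist β := MonoidHom.mk' (fun y => ⟨(1, y), 1⟩) fun a b => Twist.ext (Prod.ext (one_mul 1).symm rfl) (by
    show (1 : TT Q₁ Q₂) = 1 * 1 * β (1, a) (1, b)
    rw [hzero _ _ (Or.inl (map_one σ₁)), one_mul, one_mul])
  have hfib : ∀ t, Twist.incl β t ∈ commutator (Twist β) := by
    intro t
    suffices h : ∀ x : TensorProduct ℤ (Additive (Abelianization Q₁)) (Additive (Abelianization Q₂)),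
        Twist.incl β (Multiplicative.ofAdd x) ∈ commutator (Twist β) from h (Multiplicative.toAdd t)
    intro x
    induction x using TensorProduct.induction_on with
    | zero => rw [ofAdd_zero, map_one]; exact one_mem _
    | tmul a b =>
      obtain ⟨a, rfl⟩ : ∃ q : Q₁, Additive.ofMul (Abelianization.of q) = a :=
        (QuotientGroup.mk_surjective (Additive.toMul a)).imp fun q hq => congrArg Additive.ofMul hq
      obtain ⟨b, rfl⟩ : ∃ q : Q₂, Additive.ofMul (Abelianization.of q) = b :=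
        (QuotientGroup.mk_surjective (Additive.toMul b)).imp fun q hq => congrArg Additive.ofMul hq
      obtain ⟨x, rfl⟩ := h₁.1 a
      obtain ⟨y, rfl⟩ := h₂.1 b
      have he : β ((1 : Γ₁), y) (x, (1 : Γ₂)) * (β (x, (1 : Γ₂)) ((1 : Γ₁), y))⁻¹ =
          Multiplicative.ofAdd (Additive.ofMul (Abelianization.of (σ₁ x)) ⊗ₜ[ℤ] Additive.ofMul (Abelianization.of (σ₂ y))) := by
        rw [hzero (x, (1 : Γ₂)) ((1 : Γ₁), y) (Or.inl (map_one σ₁)), inv_one, mul_one]
        rfl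
      rw [← he, ← Twist.commutator_commute β (h := ((1 : Γ₁), y)) (k := (x, (1 : Γ₂))) (by simp) 1 1, _root_.commutator_def]
      exact Subgroup.commutator_mem_commutator (Subgroup.mem_top _) (Subgroup.mem_top _)
    | add a b ha hb => rw [ofAdd_add, map_mul]; exact mul_mem ha hb
  have hmapc : ∀ {G : Type (max u v)} [Group G] (f : G →* Twist β) (z : G), z ∈ commutator G → f z ∈ commutator (Twist β) := by
    intro G _ f z hz
    have := Subgroup.mem_map_of_mem f hz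
    rw [_root_.commutator_def, Subgroup.map_commutator] at this
    exact Subgroup.commutator_mono le_top le_top this
  have hstem : Cfsg.IsStemExtension σ := by
    refine ⟨fun q => ?_, hcen, fun x hx => ?_⟩
    · obtain ⟨x, hx⟩ := h₁.1 q.1
      obtain ⟨y, hy⟩ := h₂.1 q.2
      exact ⟨⟨(x, y), 1⟩, Prod.ext hx hy⟩
    · obtain ⟨hx1, hx2⟩ := (hk x).mp hx
      have e : x = ι₁ x.base.1 * ι₂ x.base.2 * Twist.incl β x.fib := by
        refine Twist.ext (Prod.ext ?_ ?_) ?_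
        · show x.base.1 = x.base.1 * 1 * 1; simp
        · show x.base.2 = 1 * x.base.2 * 1; simp
        · show x.fib = 1 * 1 * β (x.base.1, 1) (1, x.base.2) * x.fib * β ((x.base.1, 1) * (1, x.base.2)) 1
          rw [hzero _ _ (Or.inr (map_one σ₂)), map_one, one_mul, one_mul, one_mul, mul_one]
      rw [e]
      refine mul_mem (mul_mem ?_ ?_) (hfib _)
      · have hm := Subgroup.mem_map_of_mem ι₁ (h₁.2.2 hx1)
        rw [_root_.commutator_def, Subgroup.map_commutator] at hm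
        exact Subgroup.commutator_mono le_top le_top hm
      · have hm := Subgroup.mem_map_of_mem ι₂ (h₂.2.2 hx2)
        rw [_root_.commutator_def, Subgroup.map_commutator] at hm
        exact Subgroup.commutator_mono le_top le_top hm
  refine ⟨Twist β, inferInstance, inferInstance, σ, hstem,
    ⟨{ toFun := fun x => (eA ⟨x.1.base.1, ((hk _).mp x.2).1⟩, eB ⟨x.1.base.2, ((hk _).mp x.2).2⟩, x.1.fib)
       invFun := fun w => ⟨⟨((eA.symm w.1 : Γ₁), (eB.symm w.2.1 : Γ₂)), w.2.2⟩, (hk _).mpr ⟨(eA.symm w.1).2, (eB.symm w.2.1).2⟩⟩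
       left_inv := fun x => by apply Subtype.ext; simp
       right_inv := fun w => Prod.ext (eA.apply_symm_apply w.1) (Prod.ext (eB.apply_symm_apply w.2.1) rfl)
       map_mul' := fun x y => by
        refine Prod.ext ?_ (Prod.ext ?_ ?_)
        · rw [Prod.fst_mul, ← map_mul]; rfl
        · rw [Prod.snd_mul, Prod.fst_mul, ← map_mul]; rfl
        · show x.1.fib * y.1.fib * β x.1.base y.1.base = x.1.fib * y.1.fib
          rw [hzero _ _ (Or.inl ((hk _).mp y.2).1), mul_one] }⟩⟩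

end lower

theorem exists_onto {A B : Type w} [CommGroup A] [CommGroup B] (eA : A ≃* ↥(M Q₁)) (eB : B ≃* ↥(M Q₂))
    {Δ : Type (max u v)} [Group Δ] (τ : Δ →* Q₁ × Q₂) (hτ : Cfsg.IsStemExtension τ) :
    ∃ π : A × B × TT Q₁ Q₂ →* τ.ker, Function.Surjective π := by
  letI : CommGroup ↥τ.ker :=
    { (inferInstance : Group ↥τ.ker) with
      mul_comm := fun a b => Subtype.ext (Subgroup.mem_center_iff.mp (hτ.2.1 b.2) a) }
  obtain ⟨η₁, hη₁⟩ := exists_lift τ hτ.1 hτ.2.1 (MonoidHom.inl Q₁ Q₂)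
  obtain ⟨η₂, hη₂⟩ := exists_lift τ hτ.1 hτ.2.1 (MonoidHom.inr Q₁ Q₂)
  have hτ1 : ∀ e, τ (η₁ e) = (proj Q₁ e, 1) := DFunLike.congr_fun hη₁
  have hτ2 : ∀ f, τ (η₂ f) = (1, proj Q₂ f) := DFunLike.congr_fun hη₂
  -- the commutator pairing
  have hcm : ∀ e f, ⁅η₁ e, η₂ f⁆ ∈ τ.ker := fun e f => by
    rw [MonoidHom.mem_ker, map_commutatorElement, hτ1, hτ2, commutatorElement_eq_one_iff_mul_comm]
    simp
  let s₁ := Function.surjInv (proj_surjective Q₁)
  let s₂ := Function.surjInv (proj_surjective Q₂)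
  have hs₁ : ∀ e, η₁ e = η₁ (s₁ (proj Q₁ e)) * ((η₁ (s₁ (proj Q₁ e)))⁻¹ * η₁ e) := fun e => (mul_inv_cancel_left _ _).symm
  have hs₂ : ∀ e, η₂ e = η₂ (s₂ (proj Q₂ e)) * ((η₂ (s₂ (proj Q₂ e)))⁻¹ * η₂ e) := fun e => (mul_inv_cancel_left _ _).symm
  have hd₁ : ∀ e, (η₁ (s₁ (proj Q₁ e)))⁻¹ * η₁ e ∈ Subgroup.center Δ := fun e => hτ.2.1 (by
    rw [MonoidHom.mem_ker, map_mul, map_inv, hτ1, hτ1, Function.surjInv_eq (proj_surjective Q₁), inv_mul_cancel])
  have hd₂ : ∀ e, (η₂ (s₂ (proj Q₂ e)))⁻¹ * η₂ e ∈ Subgroup.center Δ := fun e => hτ.2.1 (by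
    rw [MonoidHom.mem_ker, map_mul, map_inv, hτ2, hτ2, Function.surjInv_eq (proj_surjective Q₂), inv_mul_cancel])
  let c : Q₁ → Q₂ → ↥τ.ker := fun q r => ⟨⁅η₁ (s₁ q), η₂ (s₂ r)⁆, hcm _ _⟩
  have hc : ∀ e f, (c (proj Q₁ e) (proj Q₂ f) : Δ) = ⁅η₁ e, η₂ f⁆ := fun e f => by
    conv_rhs => rw [hs₁ e, hs₂ f, commutator_shift (hd₁ e) (hd₂ f)]
  have hc1 : ∀ q q' r, c (q * q') r = c q r * c q' r := fun q q' r => by
    obtain ⟨e, rfl⟩ := proj_surjective Q₁ q
    obtain ⟨e', rfl⟩ := proj_surjective Q₁ q'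
    obtain ⟨f, rfl⟩ := proj_surjective Q₂ r
    refine Subtype.ext ?_
    rw [← map_mul, Subgroup.coe_mul, hc, hc, hc, map_mul, commutatorElement_mul_left_eq_conj_mul,
      Subgroup.mem_center_iff.mp (hτ.2.1 (hcm e' f)) (η₁ e), mul_inv_cancel_right]
    exact (Subgroup.mem_center_iff.mp (hτ.2.1 (hcm e' f)) _).symm
  have hc2 : ∀ q r r', c q (r * r') = c q r * c q r' := fun q r r' => by
    obtain ⟨e, rfl⟩ := proj_surjective Q₁ q
    obtain ⟨f, rfl⟩ := proj_surjective Q₂ r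
    obtain ⟨f', rfl⟩ := proj_surjective Q₂ r'
    refine Subtype.ext ?_
    rw [← map_mul, Subgroup.coe_mul, hc, hc, hc, map_mul]
    have e1 : ⁅η₁ e, η₂ f * η₂ f'⁆ = ⁅η₁ e, η₂ f⁆ * (η₂ f * ⁅η₁ e, η₂ f'⁆ * (η₂ f)⁻¹) := by
      simp only [commutatorElement_def]; group
    rw [e1, Subgroup.mem_center_iff.mp (hτ.2.1 (hcm e f')) (η₂ f), mul_inv_cancel_right]
  let cA : Abelianization Q₁ →* (Abelianization Q₂ →* ↥τ.ker) :=
    Abelianization.lift (MonoidHom.mk' (fun q => Abelianization.lift (MonoidHom.mk' (c q) (hc2 q))) fun q q' =>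
      Abelianization.hom_ext _ _ (MonoidHom.ext fun r => hc1 q q' r))
  let cT : TensorProduct ℤ (Additive (Abelianization Q₁)) (Additive (Abelianization Q₂)) →+ Additive ↥τ.ker :=
    TensorProduct.liftAddHom
      (AddMonoidHom.mk' (fun a => MonoidHom.toAdditive (cA (Additive.toMul a))) fun a b => by
        apply AddMonoidHom.ext
        intro x
        show Additive.ofMul (cA (Additive.toMul (a + b)) (Additive.toMul x)) = _
        rw [toMul_add, map_mul]; rfl)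
      fun r a b => by rw [map_zsmul, map_zsmul, AddMonoidHom.smul_apply]
  let fA : A →* ↥τ.ker := ((η₁.comp (M Q₁).subtype).codRestrict τ.ker fun z => by
    show τ (η₁ (z : E Q₁)) = 1
    rw [hτ1, MonoidHom.mem_ker.mp z.2.1]; rfl).comp eA.toMonoidHom
  let fB : B →* ↥τ.ker := ((η₂.comp (M Q₂).subtype).codRestrict τ.ker fun z => by
    show τ (η₂ (z : E Q₂)) = 1
    rw [hτ2, MonoidHom.mem_ker.mp z.2.1]; rfl).comp eB.toMonoidHom
  let fT : TT Q₁ Q₂ →* ↥τ.ker := AddMonoidHom.toMultiplicativeLeft cT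
  let π : A × B × TT Q₁ Q₂ →* ↥τ.ker := MonoidHom.coprod fA (MonoidHom.coprod fB fT)
  refine ⟨π, ?_⟩
  set R : Subgroup Δ := π.range.map τ.ker.subtype with hR
  have hRk : R ≤ τ.ker := by rintro _ ⟨x, -, rfl⟩; exact x.2
  haveI : R.Normal := ⟨fun a ha g => by
    rw [Subgroup.mem_center_iff.mp (hτ.2.1 (hRk ha)) g, mul_inv_cancel_right]; exact ha⟩
  set mk := QuotientGroup.mk' R with hmk
  have hA : ∀ z ∈ M Q₁, η₁ z ∈ R := fun z hz => by
    refine ⟨π (eA.symm ⟨z, hz⟩, 1, 1), ⟨_, rfl⟩, ?_⟩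
    simp [π, fA]
  have hB : ∀ z ∈ M Q₂, η₂ z ∈ R := fun z hz => by
    refine ⟨π (1, eB.symm ⟨z, hz⟩, 1), ⟨_, rfl⟩, ?_⟩
    simp [π, fB]
  have hT : ∀ e f, ⁅η₁ e, η₂ f⁆ ∈ R := fun e f => by
    refine ⟨π (1, 1, Multiplicative.ofAdd (Additive.ofMul (Abelianization.of (proj Q₁ e)) ⊗ₜ[ℤ]
      Additive.ofMul (Abelianization.of (proj Q₂ f)))), ⟨_, rfl⟩, ?_⟩
    rw [← hc]
    simp [π, fT, cT, cA]
  let Φ : E Q₁ × E Q₂ →* Δ ⧸ R := MonoidHom.noncommCoprod (mk.comp η₁) (mk.comp η₂) fun e f => by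
    show mk (η₁ e) * mk (η₂ f) = mk (η₂ f) * mk (η₁ e)
    rw [← commutatorElement_eq_one_iff_mul_comm, ← map_commutatorElement]
    exact (QuotientGroup.eq_one_iff _).mpr (hT e f)
  intro k
  have hkey : commutator (Δ ⧸ R) ≤ (commutator (E Q₁ × E Q₂)).map Φ := by
    rw [_root_.commutator_def (Δ ⧸ R), Subgroup.commutator_le]
    intro x _ y _
    have hdec : ∀ x : Δ ⧸ R, ∃ w, ∃ z ∈ Subgroup.center (Δ ⧸ R), x = Φ w * z := by
      intro x
      obtain ⟨d, rfl⟩ := QuotientGroup.mk'_surjective R x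
      obtain ⟨e, he⟩ := proj_surjective Q₁ (τ d).1
      obtain ⟨f, hf⟩ := proj_surjective Q₂ (τ d).2
      refine ⟨(e, f), mk ((η₁ e * η₂ f)⁻¹ * d), ?_, ?_⟩
      · have hz := hτ.2.1 (show (η₁ e * η₂ f)⁻¹ * d ∈ τ.ker by
          rw [MonoidHom.mem_ker, map_mul, map_inv, map_mul, hτ1, hτ2, he, hf, inv_mul_eq_one]
          exact Prod.ext (mul_one _) (one_mul _))
        refine Subgroup.mem_center_iff.mpr fun u => ?_
        obtain ⟨u, rfl⟩ := QuotientGroup.mk'_surjective R u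
        rw [hmk, ← map_mul, ← map_mul, Subgroup.mem_center_iff.mp hz u]
      · show mk d = mk (η₁ e) * mk (η₂ f) * mk _
        rw [← map_mul, ← map_mul, mul_inv_cancel_left]
    obtain ⟨w, z, hz, rfl⟩ := hdec x
    obtain ⟨w', z', hz', rfl⟩ := hdec y
    rw [commutator_shift hz hz', ← map_commutatorElement]
    exact Subgroup.mem_map_of_mem Φ (Subgroup.commutator_mem_commutator (Subgroup.mem_top _) (Subgroup.mem_top _))
  have hk : mk (k : Δ) ∈ commutator (Δ ⧸ R) := by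
    have := Subgroup.mem_map_of_mem mk (hτ.2.2 k.2)
    rw [_root_.commutator_def, Subgroup.map_commutator] at this
    exact Subgroup.commutator_mono le_top le_top this
  obtain ⟨⟨e, f⟩, hef, hΦ⟩ := hkey hk
  have he : e ∈ commutator (E Q₁) := by
    have := Subgroup.mem_map_of_mem (MonoidHom.fst (E Q₁) (E Q₂)) hef
    rw [_root_.commutator_def, Subgroup.map_commutator] at this
    exact Subgroup.commutator_mono le_top le_top this
  have hf : f ∈ commutator (E Q₂) := by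
    have := Subgroup.mem_map_of_mem (MonoidHom.snd (E Q₁) (E Q₂)) hef
    rw [_root_.commutator_def, Subgroup.map_commutator] at this
    exact Subgroup.commutator_mono le_top le_top this
  have hmem : (η₁ e * η₂ f)⁻¹ * (k : Δ) ∈ R := by
    refine QuotientGroup.eq.mp ?_
    show mk (η₁ e * η₂ f) = mk (k : Δ)
    rw [map_mul]; exact hΦ
  have hτk : τ (η₁ e * η₂ f) = 1 := by
    have := hRk hmem
    rw [MonoidHom.mem_ker, map_mul, map_inv, MonoidHom.mem_ker.mp k.2, mul_one, inv_eq_one] at this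
    exact this
  rw [map_mul, hτ1, hτ2] at hτk
  have hp1 : proj Q₁ e = 1 := by simpa using congrArg Prod.fst hτk
  have hp2 : proj Q₂ f = 1 := by simpa using congrArg Prod.snd hτk
  have hfin : (k : Δ) ∈ R := by
    have := mul_mem (mul_mem (hA e (Subgroup.mem_inf.mpr ⟨hp1, he⟩)) (hB f (Subgroup.mem_inf.mpr ⟨hp2, hf⟩))) hmem
    rwa [mul_inv_cancel_left] at this
  obtain ⟨x, ⟨w, hw⟩, hx⟩ := hfin
  exact ⟨w, hw.trans (Subtype.ext hx)⟩

end Cfsg.Agent.GenA.Schur
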