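import Mathlib
import Cfsg.Prelude.Def_KGroupFacts
import Cfsg.Prelude.Def_Characters
import Cfsg.Agent.GenA.Schur.Cover
import Cfsg.Agent.Lib.Characters.Basic
import Cfsg.Agent.Lib.Characters.Schur
import Cfsg.Agent.Lib.Characters.Inner

/-!
Projective representations and covers: lifting along a cover, separation of the multiplier, the
degrees above a character of the multiplier.
-/

set_option autoImplicit false

namespace Cfsg.Agent.GenA.Schur

open scoped commutatorElement ComplexConjugate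

universe u v

section reps

variable {Γ : Type u} [Group Γ] [Finite Γ] {n : ℕ}

omit [Finite Γ] in
theorem exists_scalar (ρ : Representation ℂ Γ (Fin n → ℂ)) [ρ.IsIrreducible] {z : Γ}
    (hz : z ∈ Subgroup.center Γ) : ∃ c : ℂ, ρ z = c • LinearMap.id := by
  apply Cfsg.Agent.Characters.schur_scalar ρ (ρ z)
  intro g v
  rw [← Module.End.mul_apply, ← Module.End.mul_apply, ← map_mul, ← map_mul, Subgroup.mem_center_iff.mp hz g]

theorem exists_irreducible_ne {z : Γ} (hz : z ≠ 1) :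
    ∃ (n : ℕ) (ρ : Representation ℂ Γ (Fin n → ℂ)), ρ.IsIrreducible ∧ ρ z ≠ LinearMap.id := by
  haveI : Fintype Γ := Fintype.ofFinite Γ
  by_contra hc
  push Not at hc
  refine hz ?_
  have h : IsConj z 1 := Cfsg.Agent.Characters.isConj_of_forall_irr_eq fun χ => by
    obtain ⟨n, ρ, hρ, e⟩ := χ.2
    rw [← e, Representation.character, Representation.character, hc n ρ hρ, map_one]
    rfl
  exact isConj_one_left.mp h

/-- matrices of a representation -/
noncomputable def toGL (ρ : Representation ℂ Γ (Fin n → ℂ)) : Γ →* GL (Fin n) ℂ :=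
  ((LinearMap.toMatrixAlgEquiv' (R := ℂ) (n := Fin n)).toMulEquiv.toMonoidHom.comp ρ).toHomUnits

omit [Finite Γ] in
theorem toGL_apply (ρ : Representation ℂ Γ (Fin n → ℂ)) (g : Γ) :
    (toGL ρ g : Matrix (Fin n) (Fin n) ℂ) = LinearMap.toMatrixAlgEquiv' (ρ g) := rfl

omit [Finite Γ] in
theorem toGL_mem_center (ρ : Representation ℂ Γ (Fin n → ℂ)) [ρ.IsIrreducible] {z : Γ}
    (hz : z ∈ Subgroup.center Γ) : toGL ρ z ∈ Subgroup.center (GL (Fin n) ℂ) := by
  obtain ⟨c, hc⟩ := exists_scalar ρ hz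
  refine Subgroup.mem_center_iff.mpr fun g => Units.ext ?_
  rw [Units.val_mul, Units.val_mul, toGL_apply, hc, map_smul, ← Module.End.one_eq_id, map_one, mul_smul_comm,
    smul_mul_assoc, one_mul, mul_one]

omit [Finite Γ] in
theorem toGL_eq_one_iff (ρ : Representation ℂ Γ (Fin n → ℂ)) (z : Γ) : toGL ρ z = 1 ↔ ρ z = LinearMap.id := by
  rw [Units.ext_iff, Units.val_one, toGL_apply, ← map_one (LinearMap.toMatrixAlgEquiv' (R := ℂ) (n := Fin n)),
    EquivLike.apply_eq_iff_eq, Module.End.one_eq_id]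

end reps

variable {Q : Type u} [Group Q] [Finite Q]

/-- the projection of a stem extension kills `M` only trivially when the kernel is as large as possible -/
theorem injective_of_card {Γ : Type v} [Group Γ] (σ : Γ →* Q) (hσ : Cfsg.IsStemExtension σ)
    (hcard : Nat.card σ.ker = Nat.card ↥(M Q)) (η : E Q →* Γ) (hη : σ.comp η = proj Q) :
    η.ker ⊓ M Q = ⊥ := by
  obtain ⟨hmap, -⟩ := map_M_stem σ hσ η hη
  let r : ↥(M Q) →* σ.ker := (η.comp (M Q).subtype).codRestrict σ.ker fun a => hmap ▸ Subgroup.mem_map_of_mem η a.2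
  have hr : Function.Surjective r := fun x => by
    obtain ⟨m, hm, e⟩ := hmap.ge x.2
    exact ⟨⟨m, hm⟩, Subtype.ext e⟩
  have hinj := ((Nat.bijective_iff_surjective_and_card r).mpr ⟨hr, hcard.symm⟩).1
  rw [eq_bot_iff]
  rintro z ⟨hz1, hz2⟩
  have : r ⟨z, hz2⟩ = r 1 := by rw [map_one]; exact Subtype.ext hz1
  exact congrArg Subtype.val (hinj this)

/-- a nontrivial element of the multiplier is seen by a projective representation -/
theorem exists_separating {m : E Q} (hm : m ∈ M Q) (hm1 : m ≠ 1) :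
    ∃ (n : ℕ) (γ : Q →* (GL (Fin n) ℂ ⧸ Subgroup.center (GL (Fin n) ℂ))) (η : E Q →* GL (Fin n) ℂ),
      (QuotientGroup.mk' (Subgroup.center (GL (Fin n) ℂ))).comp η = γ.comp (proj Q) ∧ η m ≠ 1 := by
  obtain ⟨⟨Γ, i1, i2, σ, hσ, ⟨e⟩⟩, -⟩ := hasSchurMultiplier_M (Q := Q)
  obtain ⟨β, hβ⟩ := exists_lift σ hσ.1 hσ.2.1 (MonoidHom.id Q)
  rw [MonoidHom.id_comp] at hβ
  have hinj := injective_of_card σ hσ (Nat.card_congr e.toEquiv) β hβ
  have hz : β m ≠ 1 := fun h => hm1 ((Subgroup.mem_bot).mp (hinj ▸ (⟨h, hm⟩ : m ∈ β.ker ⊓ M Q)))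
  obtain ⟨n, ρ, hρ, hne⟩ := exists_irreducible_ne hz
  have hk : σ.ker ≤ ((QuotientGroup.mk' (Subgroup.center (GL (Fin n) ℂ))).comp (toGL ρ)).ker := fun z hz' =>
    (QuotientGroup.eq_one_iff _).mpr (toGL_mem_center ρ (hσ.2.1 hz'))
  refine ⟨n, σ.liftOfSurjective hσ.1 ⟨_, hk⟩, (toGL ρ).comp β, ?_, fun h => hne ((toGL_eq_one_iff ρ _).mp h)⟩
  refine MonoidHom.ext fun x => ?_
  rw [MonoidHom.comp_apply (g := σ.liftOfSurjective hσ.1 ⟨_, hk⟩), ← hβ, MonoidHom.comp_apply σ,
    σ.liftOfRightInverse_comp_apply (Function.surjInv hσ.1) (Function.rightInverse_surjInv hσ.1)]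
  rfl

/-- lifting into a central extension with divisible kernel along a cover -/
theorem exists_lift_cover {Γ : Type v} [Group Γ] (σ : Γ →* Q) (hσ : Cfsg.IsStemExtension σ)
    (hcard : Nat.card σ.ker = Nat.card ↥(M Q)) {X : Type*} [Group X] (C : Subgroup X) [C.Normal]
    (hC : C ≤ Subgroup.center X) (hdiv : ∀ c ∈ C, ∀ k : ℕ, k ≠ 0 → ∃ d ∈ C, d ^ k = c) (γ : Q →* X ⧸ C) :
    ∃ ρ : Γ →* X, (QuotientGroup.mk' C).comp ρ = γ.comp σ := by
  classical
  obtain ⟨β, hβ⟩ := exists_lift σ hσ.1 hσ.2.1 (MonoidHom.id Q)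
  rw [MonoidHom.id_comp] at hβ
  obtain ⟨-, hsurj⟩ := map_M_stem σ hσ β hβ
  have hinj := injective_of_card σ hσ hcard β hβ
  obtain ⟨η, hη⟩ := exists_lift (QuotientGroup.mk' C) (QuotientGroup.mk'_surjective C)
    (by rw [QuotientGroup.ker_mk']; exact hC) γ
  have hL : β.ker ≤ (proj Q).ker := fun x hx => by
    rw [MonoidHom.mem_ker, ← hβ, MonoidHom.comp_apply, MonoidHom.mem_ker.mp hx, map_one]
  have hηC : ∀ x ∈ β.ker, η x ∈ C := fun x hx => by
    refine (QuotientGroup.eq_one_iff _).mp ?_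
    show (QuotientGroup.mk' C).comp η x = 1
    rw [hη, MonoidHom.comp_apply, MonoidHom.mem_ker.mp (hL hx), map_one]
  letI : CommGroup ↥C :=
    { (inferInstance : Group ↥C) with mul_comm := fun a b => Subtype.ext (Subgroup.mem_center_iff.mp (hC b.2) a) }
  letI : DivisibleBy (Additive ↥C) ℕ :=
    { div := fun a k => if hk : k = 0 then 0 else
        Additive.ofMul ⟨(hdiv _ (Additive.toMul a).2 k hk).choose, (hdiv _ (Additive.toMul a).2 k hk).choose_spec.1⟩
      div_zero := fun a => by simp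
      div_cancel := fun {k} a hk => by
        rw [dif_neg hk, ← ofMul_pow]
        refine congrArg Additive.ofMul (Subtype.ext ?_)
        exact (hdiv _ (Additive.toMul a).2 k hk).choose_spec.2 }
  letI : DivisibleBy (Additive ↥C) ℤ := AddGroup.divisibleByIntOfDivisibleByNat _
  let of' : ↥β.ker →* Abelianization (E Q) := Abelianization.of.comp β.ker.subtype
  have hofinj : Function.Injective of' := by
    rw [injective_iff_map_eq_one]
    intro x hx
    have h1 : (x : E Q) ∈ commutator (E Q) := (Abelianization.ker_of (E Q)).le hx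
    have h2 : (x : E Q) ∈ β.ker ⊓ M Q := ⟨x.2, hL x.2, h1⟩
    rw [hinj, Subgroup.mem_bot] at h2
    exact Subtype.ext h2
  let θ0 : ↥β.ker →* ↥C := (η.comp β.ker.subtype).codRestrict C fun x => hηC x x.2
  letI : CommGroup ↥β.ker :=
    { (inferInstance : Group ↥β.ker) with
      mul_comm := fun a b => Subtype.ext (Subgroup.mem_center_iff.mp (ker_le_center Q (hL b.2)) a) }
  obtain ⟨θ1, hθ1⟩ := (Module.Baer.of_divisible (Additive ↥C)).extension_property_addMonoidHom
    (MonoidHom.toAdditive of') hofinj (MonoidHom.toAdditive θ0)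
  let θ : E Q →* ↥C := (AddMonoidHom.toMultiplicative θ1 |> fun f => (show Abelianization (E Q) →* ↥C from f)).comp Abelianization.of
  have hθ : ∀ x : ↥β.ker, (θ (x : E Q) : X) = η x := fun x =>
    congrArg (fun c : Additive ↥C => ((Additive.toMul c : ↥C) : X)) (DFunLike.congr_fun hθ1 (Additive.ofMul x))
  let η' : E Q →* X := MonoidHom.mk' (fun e => η e * ((θ e : ↥C) : X)⁻¹) fun a b => by
    show η (a * b) * ((θ (a * b) : ↥C) : X)⁻¹ = η a * ((θ a : ↥C) : X)⁻¹ * (η b * ((θ b : ↥C) : X)⁻¹)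
    rw [map_mul, map_mul, Subgroup.coe_mul, mul_inv_rev]
    have hca := Subgroup.mem_center_iff.mp (hC (inv_mem (θ a).2))
    rw [mul_assoc, ← mul_assoc (η b), mul_assoc (η a) _ (η b * _), hca (η b * ((θ b : ↥C) : X)⁻¹)]
  have hk' : β.ker ≤ η'.ker := fun x hx => by
    show η x * ((θ x : ↥C) : X)⁻¹ = 1
    rw [hθ ⟨x, hx⟩, mul_inv_cancel]
  refine ⟨β.liftOfSurjective hsurj ⟨η', hk'⟩, MonoidHom.ext fun g => ?_⟩
  obtain ⟨e, rfl⟩ := hsurj g
  rw [MonoidHom.comp_apply, β.liftOfRightInverse_comp_apply (Function.surjInv hsurj) (Function.rightInverse_surjInv hsurj),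
    MonoidHom.comp_apply γ, ← MonoidHom.comp_apply σ β, hβ, ← MonoidHom.comp_apply γ, ← hη]
  show QuotientGroup.mk' C (η e * ((θ e : ↥C) : X)⁻¹) = QuotientGroup.mk' C (η e)
  rw [map_mul, show QuotientGroup.mk' C ((θ e : ↥C) : X)⁻¹ = 1 from (QuotientGroup.eq_one_iff _).mpr (inv_mem (θ e).2), mul_one]

/-- the centre of `GL n ℂ` is divisible -/
theorem center_GL_divisible (n : ℕ) : ∀ c ∈ Subgroup.center (GL (Fin n) ℂ), ∀ k : ℕ, k ≠ 0 →
    ∃ d ∈ Subgroup.center (GL (Fin n) ℂ), d ^ k = c := by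
  intro c hc k hk
  rcases Nat.eq_zero_or_pos n with rfl | hn
  · haveI : Subsingleton (GL (Fin 0) ℂ) := ⟨fun a b => Units.ext (Subsingleton.elim _ _)⟩
    exact ⟨1, one_mem _, Subsingleton.elim _ _⟩
  haveI : Nonempty (Fin n) := ⟨⟨0, hn⟩⟩
  rw [Matrix.GeneralLinearGroup.center_eq_range_scalar] at hc
  obtain ⟨a, rfl⟩ := hc
  obtain ⟨b, hb⟩ := IsAlgClosed.exists_pow_nat_eq (a : ℂ) (Nat.pos_of_ne_zero hk)
  have hb0 : b ≠ 0 := fun h => by rw [h, zero_pow hk] at hb; exact a.ne_zero hb.symm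
  refine ⟨Matrix.GeneralLinearGroup.scalar (Fin n) (Units.mk0 b hb0), ?_, ?_⟩
  · rw [Matrix.GeneralLinearGroup.center_eq_range_scalar]; exact ⟨_, rfl⟩
  · rw [← map_pow]
    exact congrArg _ (Units.ext hb)

/-- the square of the exponent of the kernel divides the order of the quotient -/
theorem exponent_sq_dvd {Γ : Type v} [Group Γ] [Finite Γ] (σ : Γ →* Q) (hσ : Cfsg.IsStemExtension σ) :
    Monoid.exponent σ.ker ^ 2 ∣ Nat.card Q := by
  classical
  haveI : Fintype Γ := Fintype.ofFinite Γ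
  haveI : Fintype (Cfsg.IrrCharacter Γ) := Fintype.ofFinite _
  letI : CommGroup ↥σ.ker :=
    { (inferInstance : Group ↥σ.ker) with
      mul_comm := fun a b => Subtype.ext (Subgroup.mem_center_iff.mp (hσ.2.1 b.2) a) }
  haveI : Fintype ↥σ.ker := Fintype.ofFinite _
  have hkey : ∀ χ : Cfsg.IrrCharacter Γ, ∃ (d : ℕ) (L : ↥σ.ker →* ℂˣ), (χ : Γ → ℂ) 1 = d ∧
      (∀ z : ↥σ.ker, (χ : Γ → ℂ) z = d * (L z : ℂ)) ∧ L ^ d = 1 := by
    intro χ
    obtain ⟨d, ρ, hρ, e⟩ := χ.2
    haveI := hρ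
    haveI := Cfsg.Agent.Characters.nontrivial_of_isIrreducible ρ
    have hsc : ∀ z : ↥σ.ker, ∃ c : ℂˣ, ρ z = (c : ℂ) • LinearMap.id := fun z => by
      obtain ⟨c, hc⟩ := exists_scalar ρ (hσ.2.1 z.2)
      refine ⟨Units.mk0 c ?_, hc⟩
      intro h0
      obtain ⟨v, hv⟩ := exists_ne (0 : Fin d → ℂ)
      have h1 : ρ ((z : Γ)⁻¹) (ρ z v) = v := by rw [← Module.End.mul_apply, ← map_mul, inv_mul_cancel, map_one, Module.End.one_apply]
      rw [hc, h0, zero_smul, LinearMap.zero_apply, map_zero] at h1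
      exact hv h1.symm
    choose c hc using hsc
    have huniq : ∀ a b : ℂˣ, ((a : ℂ) • (LinearMap.id : (Fin d → ℂ) →ₗ[ℂ] Fin d → ℂ)) = (b : ℂ) • LinearMap.id → a = b := by
      intro a b h
      obtain ⟨v, hv⟩ := exists_ne (0 : Fin d → ℂ)
      exact Units.ext (smul_left_injective ℂ hv (LinearMap.congr_fun h v))
    let L : ↥σ.ker →* ℂˣ := MonoidHom.mk' c fun a b => huniq _ _ (by
      rw [← hc, Subgroup.coe_mul, map_mul, hc a, hc b, smul_mul_assoc, mul_smul_comm, smul_smul, Units.val_mul,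
        ← Module.End.one_eq_id, one_mul])
    refine ⟨d, L, ?_, fun z => ?_, MonoidHom.ext fun z => ?_⟩
    · rw [← e, Representation.character, map_one, LinearMap.trace_one, Module.finrank_fin_fun]
    · rw [← e, Representation.character, hc z, map_smul, LinearMap.trace_id, Module.finrank_fin_fun, smul_eq_mul,
        mul_comm]
      rfl
    · have h1 : ((LinearMap.det (M := Fin d → ℂ) (A := ℂ)).comp ρ).toHomUnits (z : Γ) = 1 :=
        MonoidHom.mem_ker.mp (Abelianization.commutator_subset_ker _ (hσ.2.2 z.2))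
      have h2 : LinearMap.det (ρ z) = 1 := congrArg Units.val h1
      rw [hc z, LinearMap.det_smul, Module.finrank_fin_fun, LinearMap.det_id, mul_one] at h2
      exact Units.ext (by simpa [L] using h2)
  choose d L hd hL hLd using hkey
  -- a character of maximal order
  obtain ⟨lam, hlam⟩ : ∃ lam : ↥σ.ker →* ℂˣ, orderOf lam = Monoid.exponent ↥σ.ker := by
    obtain ⟨e⟩ := CommGroup.monoidHom_mulEquiv_of_hasEnoughRootsOfUnity ↥σ.ker ℂ
    obtain ⟨z, hz⟩ := Monoid.exists_orderOf_eq_exponent (Monoid.ExponentExists.of_finite (G := ↥σ.ker))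
    exact ⟨e.symm z, by rw [MulEquiv.orderOf_eq, hz]⟩
  have horth : ∀ f : ↥σ.ker →* ℂˣ, ∑ z, ((f z : ℂˣ) : ℂ) = if f = 1 then (Nat.card ↥σ.ker : ℂ) else 0 := by
    intro f
    split_ifs with h
    · simp [h, Nat.card_eq_fintype_card]
    · exact sum_hom_units_eq_zero ((Units.coeHom ℂ).comp f) fun h' =>
        h (MonoidHom.ext fun z => Units.ext (DFunLike.congr_fun h' z :))
  have hsum : ∀ z : ↥σ.ker, ∑ χ : Cfsg.IrrCharacter Γ, (d χ : ℂ) ^ 2 * (L χ z : ℂ) =
      if z = 1 then (Nat.card Γ : ℂ) else 0 := by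
    intro z
    have h := Cfsg.Agent.Characters.second_orthogonality (G := Γ) (z : Γ) 1
    have e : ∀ χ : Cfsg.IrrCharacter Γ, (d χ : ℂ) ^ 2 * (L χ z : ℂ) = (χ : Γ → ℂ) z * conj ((χ : Γ → ℂ) 1) := by
      intro χ
      rw [hd, hL, Complex.conj_natCast]; ring
    rw [Finset.sum_congr rfl fun χ _ => e χ, h]
    by_cases hz : z = 1
    · subst hz
      rw [if_pos rfl, if_pos (by exact IsConj.refl _)]
      rw [show Subgroup.centralizer ({(1 : Γ)} : Set Γ) = ⊤ from eq_top_iff.mpr fun x _ =>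
        Subgroup.mem_centralizer_singleton_iff.mpr (by simp)]
      simp
    · rw [if_neg hz, if_neg fun h' => hz (Subtype.ext (isConj_one_left.mp h'))]
  have hfin : (Nat.card ↥σ.ker : ℂ) * ∑ χ ∈ Finset.univ.filter (fun χ => L χ = lam), (d χ : ℂ) ^ 2 = Nat.card Γ := by
    calc _ = ∑ χ : Cfsg.IrrCharacter Γ, (d χ : ℂ) ^ 2 * ∑ z : ↥σ.ker, (((L χ * lam⁻¹) z : ℂˣ) : ℂ) := by
          rw [Finset.mul_sum, Finset.sum_filter]
          refine Finset.sum_congr rfl fun χ _ => ?_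
          have e : L χ * lam⁻¹ = 1 ↔ L χ = lam := ⟨fun h => MonoidHom.ext fun z => mul_inv_eq_one.mp (DFunLike.congr_fun h z :),
            fun h => by rw [h]; ext z; simp⟩
          rw [horth]
          simp only [e]
          split_ifs <;> ring
      _ = ∑ z : ↥σ.ker, (((lam z)⁻¹ : ℂˣ) : ℂ) * ∑ χ : Cfsg.IrrCharacter Γ, (d χ : ℂ) ^ 2 * (L χ z : ℂ) := by
          simp only [Finset.mul_sum]
          rw [Finset.sum_comm]
          refine Finset.sum_congr rfl fun z _ => Finset.sum_congr rfl fun χ _ => ?_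
          rw [MonoidHom.mul_apply, MonoidHom.inv_apply, Units.val_mul]; ring
      _ = _ := by
          simp only [hsum, mul_ite, mul_zero, Finset.sum_ite_eq', Finset.mem_univ, if_true, map_one, inv_one,
            Units.val_one, one_mul]
  have hnat : Nat.card ↥σ.ker * ∑ χ ∈ Finset.univ.filter (fun χ => L χ = lam), d χ ^ 2 = Nat.card Γ := by
    exact_mod_cast hfin
  have hQ : Nat.card Γ = Nat.card ↥σ.ker * Nat.card Q := by
    rw [← Subgroup.card_mul_index σ.ker, Subgroup.index_ker, MonoidHom.range_eq_top.mpr hσ.1, Subgroup.card_top]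
  rw [hQ] at hnat
  rw [← Nat.eq_of_mul_eq_mul_left Nat.card_pos hnat]
  refine Finset.dvd_sum fun χ hχ => pow_dvd_pow_of_dvd ?_ 2
  rw [← hlam, orderOf_dvd_iff_pow_eq_one, ← (Finset.mem_filter.mp hχ).2]
  exact hLd χ

end Cfsg.Agent.GenA.Schur
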