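import Mathlib

/-!
Monomial groups `D ≀ S_ι` modulo the product-one part of a central subgroup of the base.
-/

set_option autoImplicit false

namespace Cfsg.Agent.GenA.Schur

universe u v w

variable (ι : Type w) (D : Type u) [Group D]

/-- permutation of coordinates -/
def permAct : Equiv.Perm ι →* MulAut (ι → D) where
  toFun σ :=
    { toFun := fun f i => f (σ⁻¹ i)
      invFun := fun f i => f (σ i)
      left_inv := fun f => funext fun i => by simp
      right_inv := fun f => funext fun i => by simp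
      map_mul' := fun _ _ => rfl }
  map_one' := rfl
  map_mul' := fun _ _ => rfl

/-- the monomial group -/
abbrev Mon := (ι → D) ⋊[permAct ι D] Equiv.Perm ι

variable {ι D}

theorem permAct_apply (σ : Equiv.Perm ι) (f : ι → D) (i : ι) : permAct ι D σ f i = f (σ⁻¹ i) := rfl

/-- functoriality -/
def Mon.map {D' : Type v} [Group D'] (η : D →* D') : Mon ι D →* Mon ι D' :=
  SemidirectProduct.map (η.compLeft ι) (MonoidHom.id _) fun _ => rfl

/-- monomial representation of a group on the cosets of a subgroup -/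
def monomial {G : Type v} [Group G] [MulAction G ι] (H : Subgroup G) (s : ι → G)
    (hs : ∀ (g : G) (i : ι), (s i)⁻¹ * g * s (g⁻¹ • i) ∈ H) : G →* Mon ι ↥H where
  toFun g := ⟨fun i => ⟨(s i)⁻¹ * g * s (g⁻¹ • i), hs g i⟩, MulAction.toPermHom G ι g⟩
  map_one' := by
    refine SemidirectProduct.ext (funext fun i => Subtype.ext ?_) (map_one _)
    show (s i)⁻¹ * 1 * s ((1 : G)⁻¹ • i) = 1
    simp
  map_mul' g h := by
    refine SemidirectProduct.ext (funext fun i => Subtype.ext ?_) (map_mul _ _ _)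
    show (s i)⁻¹ * (g * h) * s ((g * h)⁻¹ • i) =
      (s i)⁻¹ * g * s (g⁻¹ • i) * ((s ((MulAction.toPermHom G ι g)⁻¹ i))⁻¹ * h * s (h⁻¹ • (MulAction.toPermHom G ι g)⁻¹ i))
    rw [show (MulAction.toPermHom G ι g)⁻¹ i = g⁻¹ • i from rfl, mul_inv_rev, mul_smul]
    group

section quotient

variable [Fintype ι] {C : Type v} [CommGroup C] (κ : C →* D)

/-- product of the coordinates -/
def coordProd : (ι → C) →* C where
  toFun f := ∏ i, f i
  map_one' := Finset.prod_const_one
  map_mul' _ _ := Finset.prod_mul_distrib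

/-- the base vectors with values in `C` -/
def vec : (ι → C) →* Mon ι D := SemidirectProduct.inl.comp (κ.compLeft ι)

/-- product-one vectors -/
def N0 : Subgroup (Mon ι D) := (coordProd (ι := ι) (C := C)).ker.map (vec κ)

variable {κ}

theorem conj_vec (hκ : ∀ c, κ c ∈ Subgroup.center D) (w : Mon ι D) (c : ι → C) :
    w * vec κ c * w⁻¹ = vec κ (fun i => c (w.right⁻¹ i)) := by
  rw [mul_inv_eq_iff_eq_mul]
  refine SemidirectProduct.ext (funext fun i => ?_) ?_
  · show w.left i * κ (c (w.right⁻¹ i)) = κ (c (w.right⁻¹ i)) * w.left ((1 : Equiv.Perm ι)⁻¹ i)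
    rw [inv_one, Equiv.Perm.one_apply, Subgroup.mem_center_iff.mp (hκ _)]
  · show w.right * 1 = 1 * w.right
    simp

theorem N0_normal (hκ : ∀ c, κ c ∈ Subgroup.center D) : (N0 (ι := ι) κ).Normal := by
  refine ⟨?_⟩
  rintro _ ⟨c, hc, rfl⟩ w
  rw [conj_vec hκ]
  refine Subgroup.mem_map_of_mem _ ?_
  show ∏ i, c (w.right⁻¹ i) = 1
  rw [Equiv.prod_comp w.right⁻¹ c]
  exact hc

theorem vec_eq_vec (i0 : ι) [DecidableEq ι] (c : ι → C) :
    (vec κ c)⁻¹ * vec κ (Pi.mulSingle i0 (∏ i, c i)) ∈ N0 (ι := ι) κ := by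
  rw [← map_inv, ← map_mul]
  refine Subgroup.mem_map_of_mem _ ?_
  show ∏ i, (c⁻¹ * (Pi.mulSingle i0 (∏ k, c k) : ι → C)) i = 1
  simp [Finset.prod_mul_distrib]

theorem vec_injective (hκ : Function.Injective κ) : Function.Injective (vec (ι := ι) κ) := fun a b h =>
  funext fun i => hκ (congrFun (SemidirectProduct.inl_injective h) i)

theorem eq_one_of_single_mem (hκ : Function.Injective κ) (i0 : ι) [DecidableEq ι] (c : C)
    (h : vec κ (Pi.mulSingle i0 c) ∈ N0 (ι := ι) κ) : c = 1 := by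
  obtain ⟨f, hf, e⟩ := h
  rw [vec_injective hκ e] at hf
  have h2 : ∏ i, (Pi.mulSingle i0 c : ι → C) i = 1 := hf
  simpa using h2

theorem central_mod (hκ : ∀ c, κ c ∈ Subgroup.center D) [DecidableEq ι] [(N0 (ι := ι) κ).Normal] (c : ι → C) :
    QuotientGroup.mk' (N0 (ι := ι) κ) (vec κ c) ∈ Subgroup.center (Mon ι D ⧸ N0 (ι := ι) κ) := by
  refine Subgroup.mem_center_iff.mpr fun x => ?_
  obtain ⟨x, rfl⟩ := QuotientGroup.mk'_surjective (N0 (ι := ι) κ) x
  rw [← mul_inv_eq_iff_eq_mul, ← map_mul, ← map_inv, ← map_mul, conj_vec hκ]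
  refine (QuotientGroup.eq).mpr ?_
  rw [← map_inv, ← map_mul]
  refine Subgroup.mem_map_of_mem _ ?_
  show ∏ i, ((fun i => c (x.right⁻¹ i))⁻¹ * c) i = 1
  simp only [Pi.mul_apply, Pi.inv_apply, Finset.prod_mul_distrib, Finset.prod_inv_distrib,
    Equiv.prod_comp x.right⁻¹ c, inv_mul_cancel]

/-- product of the coordinates in the abelianisation -/
def abProd : Mon ι D →* Abelianization D where
  toFun w := ∏ i, Abelianization.of (w.left i)
  map_one' := by simp
  map_mul' a b := by
    show ∏ i, Abelianization.of (a.left i * b.left (a.right⁻¹ i)) = _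
    simp only [map_mul, Finset.prod_mul_distrib]
    rw [Equiv.prod_comp a.right⁻¹ (fun i => Abelianization.of (b.left i))]

theorem abProd_vec (c : ι → C) : abProd (vec κ c) = Abelianization.of (κ (∏ i, c i)) := by
  show ∏ i, Abelianization.of (κ (c i)) = _
  exact (map_prod (Abelianization.of.comp κ) c Finset.univ).symm

theorem N0_le_ker : N0 (ι := ι) κ ≤ (abProd (ι := ι) (D := D)).ker := by
  rintro _ ⟨c, hc, rfl⟩
  rw [MonoidHom.mem_ker, abProd_vec, show ∏ i, c i = 1 from hc, map_one, map_one]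

end quotient

end Cfsg.Agent.GenA.Schur
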