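import Mathlib
import Cfsg.Agent.GenA.Schur.Cover
import Cfsg.Agent.GenA.Schur.Wreath

/-!
Restriction and transfer between the multipliers of a group and of a subgroup.
-/

set_option autoImplicit false

namespace Cfsg.Agent.GenA.Schur

universe u v

variable {Q : Type u} [Group Q]

instance : CommGroup ↥(proj Q).ker :=
  { (inferInstance : Group ↥(proj Q).ker) with
    mul_comm := fun a b => Subtype.ext (Subgroup.mem_center_iff.mp (ker_le_center Q b.2) a) }

/-- the preimage of `U` -/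
abbrev pre (U : Subgroup Q) : Subgroup (E Q) := U.comap (proj Q)

/-- its projection to `U` -/
def preProj (U : Subgroup Q) : ↥(pre U) →* ↥U :=
  ((proj Q).comp (pre U).subtype).codRestrict U fun x => x.2

theorem preProj_surjective (U : Subgroup Q) : Function.Surjective (preProj U) := fun q => by
  obtain ⟨e, he⟩ := proj_surjective Q (q : Q)
  exact ⟨⟨e, show proj Q e ∈ U by rw [he]; exact q.2⟩, Subtype.ext he⟩

theorem preProj_ker (U : Subgroup Q) : (preProj U).ker ≤ Subgroup.center ↥(pre U) := fun x hx =>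
  Subgroup.mem_center_iff.mpr fun y => Subtype.ext (Subgroup.mem_center_iff.mp
    (ker_le_center Q (show proj Q (x : E Q) = 1 from congrArg Subtype.val (MonoidHom.mem_ker.mp hx))) y)

theorem pow_mem_commutator [Finite Q] (U : Subgroup Q) {z : E Q} (hz : z ∈ M Q) :
    ∃ h : z ^ U.index ∈ pre U, (⟨z ^ U.index, h⟩ : ↥(pre U)) ∈ commutator ↥(pre U) := by
  have hidx : (pre U).index = U.index := Subgroup.index_comap_of_surjective U (proj_surjective Q)
  haveI : (pre U).FiniteIndex := ⟨by rw [hidx]; exact Subgroup.index_ne_zero_of_finite⟩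
  let ϕ : ↥(pre U) →* Abelianization ↥(pre U) := Abelianization.of
  have hkey : ∀ (k : ℕ) (g₀ : E Q), g₀⁻¹ * z ^ k * g₀ ∈ pre U → g₀⁻¹ * z ^ k * g₀ = z ^ k := fun k g₀ _ => by
    rw [mul_assoc, (Subgroup.mem_center_iff.mp (pow_mem (M_le_center Q hz) k) g₀).symm, inv_mul_cancel_left]
  have h1 := MonoidHom.transfer_eq_pow ϕ z hkey
  have h2 : MonoidHom.transfer ϕ z = 1 := Abelianization.commutator_subset_ker _ hz.2
  rw [h2] at h1
  refine ⟨show proj Q (z ^ U.index) ∈ U by rw [map_pow, MonoidHom.mem_ker.mp hz.1, one_pow]; exact one_mem _, ?_⟩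
  rw [← Abelianization.ker_of ↥(pre U), MonoidHom.mem_ker]
  refine (Eq.trans ?_ h1.symm)
  exact congrArg ϕ (Subtype.ext (congrArg (z ^ ·) hidx.symm))

/-- the `m`-th powers of `M Q` come from `M U` -/
theorem pow_mem_image [Finite Q] (U : Subgroup Q) (η : E ↥U →* ↥(pre U))
    (hη : (preProj U).comp η = proj ↥U) {z : E Q} (hz : z ∈ M Q) :
    ∃ b ∈ M ↥U, ((η b : ↥(pre U)) : E Q) = z ^ U.index := by
  obtain ⟨h, hc⟩ := pow_mem_commutator U hz
  have h3 : (⟨z ^ U.index, h⟩ : ↥(pre U)) ∈ (M ↥U).map η := by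
    rw [map_M _ (preProj_ker U) η hη]
    refine Subgroup.mem_inf.mpr ⟨Subtype.ext ?_, hc⟩
    show proj Q (z ^ U.index) = 1
    rw [map_pow, MonoidHom.mem_ker.mp hz.1, one_pow]
  obtain ⟨b, hb, e⟩ := h3
  exact ⟨b, hb, congrArg Subtype.val e⟩

theorem mapped_mem [Finite Q] (U : Subgroup Q) (η : E ↥U →* ↥(pre U)) (hη : (preProj U).comp η = proj ↥U)
    {b : E ↥U} (hb : b ∈ M ↥U) : ((η b : ↥(pre U)) : E Q) ∈ M Q := by
  have h : η b ∈ (M ↥U).map η := Subgroup.mem_map_of_mem η hb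
  rw [map_M _ (preProj_ker U) η hη] at h
  refine Subgroup.mem_inf.mpr ⟨show proj Q ((η b : ↥(pre U)) : E Q) = 1 from congrArg Subtype.val (MonoidHom.mem_ker.mp h.1), ?_⟩
  have := Subgroup.mem_map_of_mem (pre U).subtype h.2
  rw [_root_.commutator_def, Subgroup.map_commutator] at this
  exact Subgroup.commutator_mono le_top le_top this

/-- transfer of multipliers -/
theorem exists_transfer [Finite Q] (U : Subgroup Q) (η : E ↥U →* ↥(pre U))
    (hη : (preProj U).comp η = proj ↥U) :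
    ∃ t : ↥(M Q) →* ↥(M ↥U), ∀ z : ↥(M Q), ((η (t z : E ↥U) : ↥(pre U)) : E Q) = (z : E Q) ^ U.index := by
  classical
  haveI : Fintype (Q ⧸ U) := Fintype.ofFinite _
  letI : MulAction (E Q) (Q ⧸ U) := MulAction.compHom (Q ⧸ U) (proj Q)
  let i0 : Q ⧸ U := QuotientGroup.mk 1
  have hsec : ∀ i : Q ⧸ U, ∃ e : E Q, (QuotientGroup.mk (proj Q e) : Q ⧸ U) = i := fun i => by
    obtain ⟨q, rfl⟩ := QuotientGroup.mk_surjective i
    obtain ⟨e, rfl⟩ := proj_surjective Q q
    exact ⟨e, rfl⟩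
  choose s hs using hsec
  have hmemQ : ∀ (q : Q) (i : Q ⧸ U), (proj Q (s i))⁻¹ * q * proj Q (s (q⁻¹ • i)) ∈ U := by
    intro q i
    have e2 : (QuotientGroup.mk (q⁻¹ * proj Q (s i)) : Q ⧸ U) = q⁻¹ • i := by
      conv_rhs => rw [← hs i]
      rfl
    have h := QuotientGroup.eq.mp (e2.trans (hs (q⁻¹ • i)).symm)
    rwa [mul_inv_rev, inv_inv] at h
  have hmemE : ∀ (g : E Q) (i : Q ⧸ U), (s i)⁻¹ * g * s (g⁻¹ • i) ∈ pre U := by
    intro g i
    show proj Q _ ∈ U
    rw [map_mul, map_mul, map_inv]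
    have : g⁻¹ • i = (proj Q g)⁻¹ • i := by
      show proj Q g⁻¹ • i = _
      rw [map_inv]
    rw [this]
    exact hmemQ _ i
  let μ : Q →* Mon (Q ⧸ U) ↥U := monomial U (fun i => proj Q (s i)) hmemQ
  let ν : E Q →* Mon (Q ⧸ U) ↥(pre U) := monomial (pre U) s hmemE
  -- the two central subgroups
  let κ : ↥(proj ↥U).ker →* E ↥U := (proj ↥U).ker.subtype
  let κ' : ↥(proj Q).ker →* ↥(pre U) :=
    (proj Q).ker.subtype.codRestrict (pre U) fun c => show proj Q (c : E Q) ∈ U by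
      rw [MonoidHom.mem_ker.mp c.2]; exact one_mem _
  have hκc : ∀ c, κ c ∈ Subgroup.center (E ↥U) := fun c => ker_le_center _ c.2
  have hκ'c : ∀ c, κ' c ∈ Subgroup.center ↥(pre U) := fun c => Subgroup.mem_center_iff.mpr fun y =>
    Subtype.ext (Subgroup.mem_center_iff.mp (ker_le_center Q c.2) y)
  have hκ'i : Function.Injective κ' := fun a b h => Subtype.ext (congrArg Subtype.val h :)
  haveI := N0_normal (ι := Q ⧸ U) hκc
  haveI := N0_normal (ι := Q ⧸ U) hκ'c
  set W := Mon (Q ⧸ U) (E ↥U) ⧸ N0 (ι := Q ⧸ U) κ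
  set W' := Mon (Q ⧸ U) ↥(pre U) ⧸ N0 (ι := Q ⧸ U) κ'
  let mk := QuotientGroup.mk' (N0 (ι := Q ⧸ U) κ)
  let mk' := QuotientGroup.mk' (N0 (ι := Q ⧸ U) κ')
  -- projection of `W`
  let P : Mon (Q ⧸ U) (E ↥U) →* Mon (Q ⧸ U) ↥U := Mon.map (proj ↥U)
  have hP : N0 (ι := Q ⧸ U) κ ≤ P.ker := by
    rintro _ ⟨c, -, rfl⟩
    exact SemidirectProduct.ext (funext fun i => (c i).2) rfl
  let ξ : W →* Mon (Q ⧸ U) ↥U := QuotientGroup.lift _ P hP
  have hξs : Function.Surjective ξ := fun w => by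
    refine ⟨mk ⟨fun i => Function.surjInv (proj_surjective ↥U) (w.left i), w.right⟩, ?_⟩
    exact SemidirectProduct.ext (funext fun i => Function.surjInv_eq (proj_surjective ↥U) _) rfl
  have hkerP : ∀ x, P x = 1 → ∃ c, x = vec κ c := fun x hx =>
    ⟨fun i => ⟨x.left i, congrFun (congrArg SemidirectProduct.left hx) i⟩,
      SemidirectProduct.ext (funext fun i => rfl) (congrArg SemidirectProduct.right hx :)⟩
  have hξk : ξ.ker ≤ Subgroup.center W := fun w hw => by
    obtain ⟨x, rfl⟩ := QuotientGroup.mk'_surjective (N0 (ι := Q ⧸ U) κ) w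
    obtain ⟨c, rfl⟩ := hkerP x hw
    exact central_mod hκc c
  obtain ⟨ω, hω⟩ := exists_lift ξ hξs hξk μ
  -- the corestriction
  let j : ↥(proj ↥U).ker →* W := (mk.comp (vec κ)).comp (MonoidHom.mulSingle (fun _ : Q ⧸ U => ↥(proj ↥U).ker) i0)
  have hj : Function.Injective j := (injective_iff_map_eq_one j).mpr fun c hc =>
    eq_one_of_single_mem (Subtype.val_injective) i0 c ((QuotientGroup.eq_one_iff _).mp hc)
  have hex : ∀ z : ↥(M Q), ∃ c : ↥(proj ↥U).ker, j c = ω z ∧ (c : E ↥U) ∈ commutator (E ↥U) := by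
    intro z
    obtain ⟨x, hx⟩ := QuotientGroup.mk'_surjective (N0 (ι := Q ⧸ U) κ) (ω z)
    have hxP : P x = 1 := by
      show ξ (QuotientGroup.mk' _ x) = 1
      rw [hx, ← MonoidHom.comp_apply, hω, MonoidHom.comp_apply, MonoidHom.mem_ker.mp z.2.1, map_one]
    obtain ⟨c, rfl⟩ := hkerP x hxP
    refine ⟨∏ i, c i, ?_, ?_⟩
    · rw [← hx]
      exact ((QuotientGroup.eq).mpr (vec_eq_vec i0 c)).symm
    · rw [← Abelianization.ker_of (E ↥U), MonoidHom.mem_ker]
      let A : W →* Abelianization (E ↥U) := QuotientGroup.lift _ abProd N0_le_ker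
      have h1 : A (ω z) = 1 := Abelianization.commutator_subset_ker (A.comp ω) z.2.2
      rw [← hx] at h1
      exact (abProd_vec (κ := κ) c).symm.trans h1
  choose tf htf htc using hex
  let t : ↥(M Q) →* ↥(M ↥U) := MonoidHom.mk' (fun z => ⟨tf z, Subgroup.mem_inf.mpr ⟨(tf z).2, htc z⟩⟩) fun a b => by
    have h : tf (a * b) = tf a * tf b := hj (by rw [map_mul, htf, htf, htf, Subgroup.coe_mul, map_mul])
    exact Subtype.ext (by simpa using congrArg Subtype.val h)
  refine ⟨t, fun z => ?_⟩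
  -- naturality
  let Hm : Mon (Q ⧸ U) (E ↥U) →* Mon (Q ⧸ U) ↥(pre U) := Mon.map η
  let η0 : ↥(proj ↥U).ker →* ↥(proj Q).ker :=
    (((pre U).subtype.comp η).comp (proj ↥U).ker.subtype).codRestrict _ fun c => by
      show proj Q ((η (c : E ↥U) : ↥(pre U)) : E Q) = 1
      exact congrArg Subtype.val ((DFunLike.congr_fun hη c.1).trans c.2)
  have hHvec : ∀ c, Hm (vec κ c) = vec κ' (fun i => η0 (c i)) := fun c =>
    SemidirectProduct.ext (funext fun i => rfl) rfl
  have hHN : N0 (ι := Q ⧸ U) κ ≤ (mk'.comp Hm).ker := by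
    rintro _ ⟨c, hc, rfl⟩
    rw [MonoidHom.mem_ker, MonoidHom.comp_apply, hHvec]
    refine (QuotientGroup.eq_one_iff _).mpr (Subgroup.mem_map_of_mem _ ?_)
    show ∏ i, η0 (c i) = 1
    rw [← map_prod, show ∏ i, c i = 1 from hc, map_one]
  let H : W →* W' := QuotientGroup.lift _ (mk'.comp Hm) hHN
  let P' : Mon (Q ⧸ U) ↥(pre U) →* Mon (Q ⧸ U) ↥U := Mon.map (preProj U)
  have hP' : N0 (ι := Q ⧸ U) κ' ≤ P'.ker := by
    rintro _ ⟨c, -, rfl⟩
    exact SemidirectProduct.ext (funext fun i => Subtype.ext (c i).2) rfl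
  let ξ' : W' →* Mon (Q ⧸ U) ↥U := QuotientGroup.lift _ P' hP'
  have hPν : ∀ g, P' (ν g) = μ (proj Q g) := by
    intro g
    refine SemidirectProduct.ext (funext fun i => Subtype.ext ?_) (Equiv.ext fun i => rfl)
    show proj Q ((s i)⁻¹ * g * s (g⁻¹ • i)) = (proj Q (s i))⁻¹ * proj Q g * proj Q (s ((proj Q g)⁻¹ • i))
    rw [map_mul, map_mul, map_inv, show g⁻¹ • i = (proj Q g)⁻¹ • i from by show proj Q g⁻¹ • i = _; rw [map_inv]]
  have hξ'H : ∀ w, ξ' (H w) = ξ w := by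
    intro w
    obtain ⟨x, rfl⟩ := QuotientGroup.mk'_surjective (N0 (ι := Q ⧸ U) κ) w
    refine SemidirectProduct.ext (funext fun i => ?_) rfl
    exact DFunLike.congr_fun hη (x.left i)
  have hagree : H (ω (z : E Q)) = mk' (ν (z : E Q)) := by
    refine eq_on_commutator (H.comp ω) (mk'.comp ν) (fun a => ?_) z.2.2
    have e : ξ' ((H (ω a))⁻¹ * mk' (ν a)) = 1 := by
      rw [map_mul, map_inv, hξ'H, ← MonoidHom.comp_apply, hω]
      show (μ (proj Q a))⁻¹ * P' (ν a) = 1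
      rw [hPν, inv_mul_cancel]
    obtain ⟨x, hx⟩ := QuotientGroup.mk'_surjective (N0 (ι := Q ⧸ U) κ') ((H (ω a))⁻¹ * mk' (ν a))
    rw [← hx] at e
    show (H (ω a))⁻¹ * mk' (ν a) ∈ _
    rw [← hx]
    have : x = vec κ' (fun i => ⟨(x.left i : E Q), congrArg Subtype.val (congrFun (congrArg SemidirectProduct.left e) i)⟩) :=
      SemidirectProduct.ext (funext fun i => Subtype.ext rfl) (congrArg SemidirectProduct.right e :)
    rw [this]
    exact central_mod hκ'c _
  -- `ν z` is scalar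
  have hzk : (z : E Q) ∈ (proj Q).ker := z.2.1
  have hνz : ν (z : E Q) = vec κ' (fun _ => ⟨z, hzk⟩) := by
    refine SemidirectProduct.ext (funext fun i => Subtype.ext ?_) (Equiv.ext fun i => ?_)
    · show (s i)⁻¹ * (z : E Q) * s ((z : E Q)⁻¹ • i) = z
      rw [show (z : E Q)⁻¹ • i = i by show proj Q (z : E Q)⁻¹ • i = i; rw [map_inv, MonoidHom.mem_ker.mp hzk, inv_one, one_smul],
        mul_assoc, ← Subgroup.mem_center_iff.mp (M_le_center Q z.2) (s i), inv_mul_cancel_left]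
    · show proj Q (z : E Q) • i = i
      rw [MonoidHom.mem_ker.mp hzk, one_smul]
  rw [hνz, ← htf z] at hagree
  have hl : H (j (tf z)) = mk' (vec κ' (Pi.mulSingle i0 (η0 (tf z)))) := by
    show mk' (Hm (vec κ (Pi.mulSingle i0 (tf z)))) = _
    rw [hHvec]
    congr 2
    funext i
    exact Pi.apply_mulSingle (fun _ => η0) (fun _ => map_one η0) i0 (tf z) i
  have hr : mk' (vec κ' (fun _ => (⟨z, hzk⟩ : ↥(proj Q).ker))) =
      mk' (vec κ' (Pi.mulSingle i0 (⟨z, hzk⟩ ^ U.index))) := by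
    refine (QuotientGroup.eq).mpr ?_
    have := vec_eq_vec (κ := κ') i0 (fun _ : Q ⧸ U => (⟨z, hzk⟩ : ↥(proj Q).ker))
    rwa [Finset.prod_const, Finset.card_univ, ← Nat.card_eq_fintype_card] at this
  rw [hl, hr] at hagree
  have hd : η0 (tf z) * ((⟨z, hzk⟩ : ↥(proj Q).ker) ^ U.index)⁻¹ = 1 := by
    refine eq_one_of_single_mem hκ'i i0 _ ((QuotientGroup.eq_one_iff _).mp ?_)
    show mk' (vec κ' (Pi.mulSingle i0 _)) = 1
    rw [Pi.mulSingle_mul, Pi.mulSingle_inv, map_mul, map_inv, map_mul, map_inv, hagree, mul_inv_cancel]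
  have := congrArg (fun c : ↥(proj Q).ker => (c : E Q)) (mul_inv_eq_one.mp hd)
  simp only [Subgroup.coe_pow] at this
  exact this

/-- a quotient of a finite abelian group embeds in it -/
theorem exists_injective {B H : Type*} [CommGroup B] [CommGroup H] [Finite B] [Finite H] (f : B →* H)
    (hf : Function.Surjective f) : ∃ g : H →* B, Function.Injective g := by
  obtain ⟨eB⟩ := CommGroup.monoidHom_mulEquiv_of_hasEnoughRootsOfUnity B ℂ
  obtain ⟨eH⟩ := CommGroup.monoidHom_mulEquiv_of_hasEnoughRootsOfUnity H ℂ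
  let d : (H →* ℂˣ) →* (B →* ℂˣ) := MonoidHom.mk' (fun φ => φ.comp f) fun _ _ => rfl
  have hd : Function.Injective d := fun a b h => MonoidHom.ext fun x => by
    obtain ⟨y, rfl⟩ := hf x
    exact DFunLike.congr_fun h y
  exact ⟨eB.toMonoidHom.comp (d.comp eH.symm.toMonoidHom), eB.injective.comp (hd.comp eH.symm.injective)⟩

end Cfsg.Agent.GenA.Schur
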